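import Mathlib
import Groth.Agent.H47.CohenPres
import Groth.Agent.H47.PSReg
import Groth.Agent.H47.PSHom
import Groth.Agent.H47.CohenLift

/-!
# Two complete local presentations are dominated by a power series ring over a coefficient ring
-/

set_option autoImplicit false
set_option linter.style.haveILetI false
set_option linter.unusedSectionVars false

universe u

namespace Groth.Agent.H47.CI

open IsLocalRing MvPowerSeries Groth.Agent.H47.CohenPres

theorem isLocalHom_of_surjective' {P A : Type*} [CommRing P] [CommRing A] [IsLocalRing P]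
    [IsLocalRing A] (π : P →+* A) (hπ : Function.Surjective π) : IsLocalHom π := by
  constructor
  intro x hx
  by_contra hnu
  have hxm : x ∈ maximalIdeal P := (mem_maximalIdeal x).2 (mem_nonunits_iff.2 hnu)
  have h1 : π x ∈ (maximalIdeal P).map π := Ideal.mem_map_of_mem _ hxm
  rw [IsLocalRing.map_maximalIdeal_of_surjective π hπ] at h1
  exact (mem_maximalIdeal _).1 h1 hx

/-- **Complete domination.** Two surjections from complete Noetherian local rings onto the same
ring are dominated by a (complete) regular local ring: a power series ring over a coefficient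
ring. -/
theorem exists_dominating_complete {A P₁ P₂ : Type u} [CommRing A] [CommRing P₁] [CommRing P₂]
    [Nontrivial A]
    [IsLocalRing P₁] [IsNoetherianRing P₁] [IsAdicComplete (maximalIdeal P₁) P₁]
    [IsLocalRing P₂] [IsNoetherianRing P₂] [IsAdicComplete (maximalIdeal P₂) P₂]
    (π₁ : P₁ →+* A) (π₂ : P₂ →+* A) (hπ₁ : Function.Surjective π₁)
    (hπ₂ : Function.Surjective π₂) :
    ∃ (T : Type u) (_ : CommRing T) (_ : IsRegularLocalRing T) (ρ₁ : T →+* P₁) (ρ₂ : T →+* P₂),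
      Function.Surjective ρ₁ ∧ Function.Surjective ρ₂ ∧ π₁.comp ρ₁ = π₂.comp ρ₂ := by
  classical
  haveI : IsLocalRing A := IsLocalRing.of_surjective' π₁ hπ₁
  haveI : IsNoetherianRing A := isNoetherianRing_of_surjective P₁ A π₁ hπ₁
  haveI hl₁ : IsLocalHom π₁ := isLocalHom_of_surjective' π₁ hπ₁
  haveI hl₂ : IsLocalHom π₂ := isLocalHom_of_surjective' π₂ hπ₂
  obtain ⟨p, hp⟩ := CharP.exists (ResidueField P₁)
  obtain ⟨Λ, _, _, v₁, hΛ, hv₁loc, hv₁⟩ := exists_coeff P₁ p
  haveI := hΛ.noeth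
  haveI := hΛ.complete
  -- lifting the constants to `P₂`
  have hJ : RingHom.ker π₂ ≠ ⊤ := RingHom.ker_ne_top π₂
  let eq : (P₂ ⧸ RingHom.ker π₂) ≃+* A := RingHom.quotientKerEquivOfSurjective hπ₂
  haveI : Nontrivial (P₂ ⧸ RingHom.ker π₂) := Ideal.Quotient.nontrivial_iff.2 hJ
  haveI : IsLocalRing (P₂ ⧸ RingHom.ker π₂) :=
    IsLocalRing.of_surjective' (Ideal.Quotient.mk (RingHom.ker π₂)) Ideal.Quotient.mk_surjective
  let u : Λ →+* (P₂ ⧸ RingHom.ker π₂) := (eq.symm : A →+* _).comp (π₁.comp v₁)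
  have hequ : ∀ x, eq (u x) = π₁ (v₁ x) := fun x => eq.apply_symm_apply _
  haveI : IsLocalHom u := by
    constructor
    intro x hx
    have h1 : IsUnit (eq (u x)) := hx.map eq
    rw [hequ] at h1
    exact hv₁loc.map_nonunit x (isUnit_of_map_unit π₁ _ h1)
  obtain ⟨v₂, -, hv₂⟩ := Groth.Agent.H47.CohenLift.exists_lift_cohen hΛ.ega (RingHom.ker π₂) hJ u
  have hπv : ∀ x, π₂ (v₂ x) = π₁ (v₁ x) := by
    intro x
    rw [← hequ, ← hv₂]
    rfl
  -- generators
  obtain ⟨n, a, ha⟩ := exists_fin_gens P₁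
  obtain ⟨m, b, hb⟩ := exists_fin_gens P₂
  have ham : ∀ i, a i ∈ maximalIdeal P₁ := fun i => ha ▸ Ideal.subset_span ⟨i, rfl⟩
  have hbm : ∀ i, b i ∈ maximalIdeal P₂ := fun i => hb ▸ Ideal.subset_span ⟨i, rfl⟩
  choose a' ha' using fun i => hπ₂ (π₁ (a i))
  choose b' hb' using fun i => hπ₁ (π₂ (b i))
  have ha'm : ∀ i, a' i ∈ maximalIdeal P₂ := by
    intro i
    rw [mem_maximalIdeal, mem_nonunits_iff]
    intro hu
    have h1 : IsUnit (π₁ (a i)) := ha' i ▸ hu.map π₂
    exact (mem_maximalIdeal _).1 (ham i) (isUnit_of_map_unit π₁ _ h1)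
  have hb'm : ∀ i, b' i ∈ maximalIdeal P₁ := by
    intro i
    rw [mem_maximalIdeal, mem_nonunits_iff]
    intro hu
    have h1 : IsUnit (π₂ (b i)) := hb' i ▸ hu.map π₁
    exact (mem_maximalIdeal _).1 (hbm i) (isUnit_of_map_unit π₂ _ h1)
  let c₁ : Fin (n + m) → P₁ := Fin.append a b'
  let c₂ : Fin (n + m) → P₂ := Fin.append a' b
  have hc₁ : ∀ j, c₁ j ∈ maximalIdeal P₁ := by
    intro j
    induction j using Fin.addCases with
    | left i =>
      show Fin.append _ _ _ ∈ _
      rw [Fin.append_left]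
      exact ham i
    | right i =>
      show Fin.append _ _ _ ∈ _
      rw [Fin.append_right]
      exact hb'm i
  have hc₂ : ∀ j, c₂ j ∈ maximalIdeal P₂ := by
    intro j
    induction j using Fin.addCases with
    | left i =>
      show Fin.append _ _ _ ∈ _
      rw [Fin.append_left]
      exact ha'm i
    | right i =>
      show Fin.append _ _ _ ∈ _
      rw [Fin.append_right]
      exact hbm i
  have hcc : ∀ j, π₁ (c₁ j) = π₂ (c₂ j) := by
    intro j
    induction j using Fin.addCases with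
    | left i =>
      show π₁ (Fin.append _ _ _) = π₂ (Fin.append _ _ _)
      rw [Fin.append_left, Fin.append_left, ha']
    | right i =>
      show π₁ (Fin.append _ _ _) = π₂ (Fin.append _ _ _)
      rw [Fin.append_right, Fin.append_right, hb']
  obtain ⟨ρ₁, hρ₁C, hρ₁X⟩ := Groth.Agent.H47.PSHom.exists_evalHom (maximalIdeal P₁) v₁ c₁ hc₁
  obtain ⟨ρ₂, hρ₂C, hρ₂X⟩ := Groth.Agent.H47.PSHom.exists_evalHom (maximalIdeal P₂) v₂ c₂ hc₂
  have hρ₁s : Function.Surjective ρ₁ := by
    apply Groth.Agent.H47.PSHom.surjective_of_gens (n + m) ρ₁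
    · simpa only [hρ₁C] using hv₁
    · rw [ha, Ideal.span_le]
      rintro _ ⟨i, rfl⟩
      have h1 : a i = ρ₁ (X (Fin.castAdd m i)) := by
        rw [hρ₁X]
        show a i = Fin.append _ _ _
        rw [Fin.append_left]
      rw [h1]
      exact Ideal.mem_map_of_mem _ (Groth.Agent.H47.PSReg.X_mem_maximalIdeal _)
  have hρ₂s : Function.Surjective ρ₂ := by
    apply Groth.Agent.H47.PSHom.surjective_of_gens (n + m) ρ₂
    · intro y
      obtain ⟨x, rfl⟩ := residue_surjective y
      obtain ⟨x₁, hx₁⟩ := hπ₁ (π₂ x)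
      obtain ⟨l, hl⟩ := hv₁ (residue P₁ x₁)
      refine ⟨l, ?_⟩
      show residue P₂ (ρ₂ (C l)) = residue P₂ x
      rw [hρ₂C, ← sub_eq_zero, ← map_sub, residue_eq_zero_iff, mem_maximalIdeal, mem_nonunits_iff]
      intro hu
      have h1 : IsUnit (π₂ (v₂ l - x)) := hu.map π₂
      rw [map_sub, hπv, ← hx₁, ← map_sub] at h1
      have h2 : IsUnit (v₁ l - x₁) := isUnit_of_map_unit π₁ _ h1
      have h3 : residue P₁ (v₁ l - x₁) = 0 := by
        rw [map_sub, sub_eq_zero]
        exact hl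
      rw [residue_eq_zero_iff] at h3
      exact (mem_maximalIdeal _).1 h3 h2
    · rw [hb, Ideal.span_le]
      rintro _ ⟨i, rfl⟩
      have h1 : b i = ρ₂ (X (Fin.natAdd n i)) := by
        rw [hρ₂X]
        show b i = Fin.append _ _ _
        rw [Fin.append_right]
      rw [h1]
      exact Ideal.mem_map_of_mem _ (Groth.Agent.H47.PSReg.X_mem_maximalIdeal _)
  have hcomm : π₁.comp ρ₁ = π₂.comp ρ₂ := by
    apply Groth.Agent.H47.PSHom.ringHom_ext (maximalIdeal A)
      (Ideal.iInf_pow_eq_bot_of_isLocalRing _ Ideal.IsPrime.ne_top')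
    · intro x
      rw [RingHom.comp_apply, RingHom.comp_apply, hρ₁C, hρ₂C, hπv]
    · intro i
      rw [RingHom.comp_apply, RingHom.comp_apply, hρ₁X, hρ₂X, hcc]
    · intro i
      rw [RingHom.comp_apply, hρ₁X, mem_maximalIdeal, mem_nonunits_iff]
      intro hu
      exact (mem_maximalIdeal _).1 (hc₁ i) (isUnit_of_map_unit π₁ _ hu)
  obtain ⟨hreg, -⟩ := Groth.Agent.H47.PSReg.regular_ps (p : Λ) hΛ.hm (dimOf p) hΛ.hdim hΛ.he
    (n + m)
  exact ⟨MvPowerSeries (Fin (n + m)) Λ, inferInstance, hreg, ρ₁, ρ₂, hρ₁s, hρ₂s, hcomm⟩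

end Groth.Agent.H47.CI
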