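import Mathlib

/-!
# The minimal number of generators of an ideal does not drop under faithfully flat local
extensions
-/

set_option autoImplicit false
set_option linter.style.haveILetI false
set_option linter.unusedSectionVars false

universe u

namespace Groth.Agent.H47.CI

open IsLocalRing TensorProduct

/-- In a finitely generated submodule over a local ring, any generating set contains a generating
subset with at most `μ(N)` elements. -/
theorem exists_finset_subset_span_eq_top {S M : Type u} [CommRing S] [IsLocalRing S]
    [AddCommGroup M] [Module S M] (N : Submodule S M) (hN : N.FG) (G : Set N)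
    (hG : Submodule.span S G = ⊤) :
    ∃ t : Finset N, (t : Set N) ⊆ G ∧ t.card ≤ N.spanFinrank ∧
      Submodule.span S (t : Set N) = ⊤ := by
  classical
  haveI : Module.Finite S N := Module.Finite.iff_fg.mpr hN
  let k := ResidueField S
  let v : G → k ⊗[S] N := fun g => (1 : k) ⊗ₜ[S] (g : N)
  have hv : Submodule.span k (Set.range v) = ⊤ := by
    have h1 : (Submodule.span S G).map (TensorProduct.mk S k N 1) = ⊤ := by
      rw [hG]
      exact (map_tensorProduct_mk_eq_top).2 rfl
    rw [Submodule.map_span] at h1
    rw [← Submodule.restrictScalars_eq_top_iff S, Submodule.restrictScalars_span _ _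
      (by exact residue_surjective)]
    convert h1 using 2
    ext w
    constructor
    · rintro ⟨g, rfl⟩
      exact ⟨g.1, g.2, rfl⟩
    · rintro ⟨g, hg, rfl⟩
      exact ⟨⟨g, hg⟩, rfl⟩
  obtain ⟨κ, a, ha, hspan, hli⟩ := exists_linearIndependent' k v
  let b : Module.Basis κ k (k ⊗[S] N) := Module.Basis.mk hli (by rw [hspan, hv])
  haveI : Fintype κ := FiniteDimensional.fintypeBasisIndex b
  have hb : ∀ i, (1 : k) ⊗ₜ[S] ((a i : G) : N) = b i := fun i => by
    rw [Module.Basis.mk_apply]
    rfl
  have htop := span_eq_top_of_tmul_eq_basis (fun i => ((a i : G) : N)) b hb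
  refine ⟨Finset.univ.image (fun i => ((a i : G) : N)), ?_, ?_, ?_⟩
  · intro y hy
    rw [Finset.coe_image] at hy
    obtain ⟨i, -, rfl⟩ := hy
    exact (a i).2
  · refine Finset.card_image_le.trans ?_
    rw [Finset.card_univ, ← Module.finrank_eq_card_basis b,
      Module.finrank_eq_spanFinrank_of_free, TensorProduct.spanFinrank_top_eq_of_residueField N hN]
  · rw [Finset.coe_image, Finset.coe_univ, Set.image_univ]
    exact htop

/-- **Descent of the number of generators.** For a faithfully flat algebra `S` over `R` with `S`
local, an ideal `I` of `R` is generated by `μ(IS)` elements. -/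
theorem spanFinrank_le_spanFinrank_map {R S : Type u} [CommRing R] [CommRing S] [IsLocalRing S]
    [IsNoetherianRing S] [Algebra R S] [Module.FaithfullyFlat R S] (I : Ideal R) :
    I.spanFinrank ≤ (I.map (algebraMap R S)).spanFinrank := by
  classical
  let N : Ideal S := I.map (algebraMap R S)
  have hN : N.FG := IsNoetherian.noetherian N
  let G : Set N := {y | ∃ x ∈ I, algebraMap R S x = y.1}
  have hG : Submodule.span S G = ⊤ := by
    apply Submodule.map_injective_of_injective N.injective_subtype
    rw [Submodule.map_subtype_top, Submodule.map_span]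
    change Submodule.span S _ = Ideal.span _
    congr 1
    ext w
    constructor
    · rintro ⟨y, ⟨x, hx, hxy⟩, rfl⟩
      exact ⟨x, hx, hxy⟩
    · rintro ⟨x, hx, rfl⟩
      exact ⟨⟨algebraMap R S x, Ideal.mem_map_of_mem _ hx⟩, ⟨x, hx, rfl⟩, rfl⟩
  obtain ⟨t, htG, hcard, hspan⟩ := exists_finset_subset_span_eq_top N hN G hG
  choose f hfI hf using fun y : t => htG y.2
  let I' : Ideal R := Ideal.span (Set.range f)
  have hI'le : I' ≤ I := by
    rw [Ideal.span_le]
    rintro _ ⟨y, rfl⟩
    exact hfI y
  have hmap : I'.map (algebraMap R S) = N := by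
    apply le_antisymm (Ideal.map_mono hI'le)
    have h1 : (Submodule.span S (t : Set N)).map N.subtype = N := by
      rw [hspan, Submodule.map_subtype_top]
    change N ≤ _
    rw [← h1, Submodule.map_span, Ideal.map_span]
    apply Submodule.span_mono
    rintro _ ⟨y, hy, rfl⟩
    exact ⟨f ⟨y, hy⟩, ⟨⟨y, hy⟩, rfl⟩, hf ⟨y, hy⟩⟩
  have hI' : I' = I := by
    rw [← Ideal.comap_map_eq_self_of_faithfullyFlat (B := S) I',
      ← Ideal.comap_map_eq_self_of_faithfullyFlat (B := S) I, hmap]
  calc I.spanFinrank = I'.spanFinrank := by rw [hI']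
    _ ≤ (Set.range f).ncard := Submodule.spanFinrank_span_le_ncard_of_finite (Set.finite_range f)
    _ ≤ t.card := by
        have := Set.ncard_image_le (f := f) (s := Set.univ) Set.finite_univ
        rw [Set.image_univ] at this
        refine this.trans ?_
        rw [Set.ncard_univ, Nat.card_eq_fintype_card, Fintype.card_coe]
    _ ≤ N.spanFinrank := hcard

end Groth.Agent.H47.CI
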