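import Mathlib
import Groth.Agent.Lead.RegularLocal4

/-!
# Number of generators of ideals under quotients by elements outside `m²`

The exchange lemma (`spanFinrank_map_mk_add_one_le`), lifting of generators
(`spanFinrank_le_map_add`), and the behaviour of the minimal number of generators of an
ideal `J ⊇ K` in a regular local ring `R` with `R ⧸ K` regular:
`μ(J / K) + dim R ≤ μ(J) + dim R/K` (`spanFinrank_map_add_le`) and
`μ(K) + dim R/K ≤ dim R` (`spanFinrank_ker_add_le`).
-/

set_option autoImplicit false
set_option linter.style.haveILetI false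
set_option linter.unusedSectionVars false

universe u

namespace Groth.Agent.H47.CI

open IsLocalRing

/-- Exchange lemma: if `x ∈ J ∖ m²` then `J/(x)` needs one generator less than `J`. -/
theorem spanFinrank_map_mk_add_one_le {A : Type*} [CommRing A] [IsLocalRing A]
    [IsNoetherianRing A] (x : A) (hx2 : x ∉ maximalIdeal A ^ 2) (J : Ideal A) (hxJ : x ∈ J)
    (hJ : J ≠ ⊤) :
    (J.map (Ideal.Quotient.mk (Ideal.span {x}))).spanFinrank + 1 ≤ J.spanFinrank := by
  classical
  have hJm : J ≤ maximalIdeal A := IsLocalRing.le_maximalIdeal hJ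
  obtain ⟨s, hcard, hspan⟩ :=
    Submodule.FG.exists_span_finset_card_eq_spanFinrank (IsNoetherian.noetherian J)
  have hxs : x ∈ Submodule.span A (s : Set A) := by rw [hspan]; exact hxJ
  obtain ⟨f, hf⟩ := Submodule.mem_span_finset'.mp hxs
  -- some coefficient is a unit
  have hunit : ∃ g₀ : s, IsUnit (f g₀) := by
    by_contra hcon
    push Not at hcon
    apply hx2
    rw [← hf, pow_two]
    refine Ideal.sum_mem _ fun g _ => ?_
    rw [smul_eq_mul]
    refine Ideal.mul_mem_mul ?_ ?_
    · exact (IsLocalRing.mem_maximalIdeal _).mpr (hcon g)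
    · apply hJm
      rw [← hspan]
      exact Submodule.subset_span g.2
  obtain ⟨g₀, hg₀⟩ := hunit
  obtain ⟨u, hu⟩ := hg₀
  set q := Ideal.Quotient.mk (Ideal.span {x}) with hq
  have hqx : q x = 0 := Ideal.Quotient.eq_zero_iff_mem.mpr (Ideal.mem_span_singleton_self x)
  -- the image of `J` is generated by the images of `s.erase g₀`
  have himg : J.map q = Ideal.span (q '' ((s.erase g₀.1 : Finset A) : Set A)) := by
    apply le_antisymm
    · rw [← hspan]
      change Ideal.map q (Ideal.span (s : Set A)) ≤ _
      rw [Ideal.map_span, Ideal.span_le]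
      rintro _ ⟨g, hg, rfl⟩
      by_cases hgg : g = g₀.1
      · -- `q g₀` is a combination of the others
        have h1 : q x = ∑ i : s, q (f i) * q i.1 := by
          have h0 : q x = q (∑ a : s, f a • a.1) := congrArg q hf.symm
          rw [h0, map_sum]
          exact Finset.sum_congr rfl fun i _ => by rw [smul_eq_mul, map_mul]
        rw [hqx, ← Finset.add_sum_erase _ _ (Finset.mem_univ g₀)] at h1
        have h2 : q g₀.1 = - (q (↑u⁻¹ : A)) *
            ∑ i ∈ (Finset.univ : Finset s).erase g₀, q (f i) * q i.1 := by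
          have h3 : q (f g₀) * q g₀.1 =
              - ∑ i ∈ (Finset.univ : Finset s).erase g₀, q (f i) * q i.1 :=
            eq_neg_of_add_eq_zero_left h1.symm
          have h4 : q (↑u⁻¹ : A) * q (f g₀) = 1 := by
            rw [← map_mul, ← hu, Units.inv_mul, map_one]
          calc q g₀.1 = (q (↑u⁻¹ : A) * q (f g₀)) * q g₀.1 := by rw [h4, one_mul]
            _ = q (↑u⁻¹ : A) * (q (f g₀) * q g₀.1) := by ring
            _ = _ := by rw [h3]; ring
        rw [hgg, h2]
        refine Ideal.mul_mem_left _ _ (Ideal.sum_mem _ fun i hi => ?_)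
        refine Ideal.mul_mem_left _ _ (Ideal.subset_span ⟨i.1, ?_, rfl⟩)
        rw [Finset.mem_coe, Finset.mem_erase]
        refine ⟨fun h => (Finset.mem_erase.mp hi).1 (Subtype.ext h), i.2⟩
      · exact Ideal.subset_span ⟨g, by
          rw [Finset.mem_coe, Finset.mem_erase]; exact ⟨hgg, hg⟩, rfl⟩
    · rw [Ideal.span_le]
      rintro _ ⟨g, hg, rfl⟩
      refine Ideal.mem_map_of_mem _ ?_
      rw [← hspan]
      exact Submodule.subset_span (Finset.mem_of_mem_erase hg)
  have hle : (J.map q).spanFinrank ≤ (s.erase g₀.1).card := by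
    rw [himg]
    refine (Submodule.spanFinrank_span_le_ncard_of_finite
      ((s.erase g₀.1).finite_toSet.image _)).trans ?_
    refine (Set.ncard_image_le (s.erase g₀.1).finite_toSet).trans ?_
    rw [Set.ncard_coe_finset]
  have hcard' : (s.erase g₀.1).card + 1 = s.card := Finset.card_erase_add_one g₀.2
  omega

/-- Lifting generators: `μ(J) ≤ μ(J/K) + μ(K)` for `K ≤ J`. -/
theorem spanFinrank_le_map_add {A : Type*} [CommRing A] [IsNoetherianRing A] (K J : Ideal A)
    (hKJ : K ≤ J) :
    J.spanFinrank ≤ (J.map (Ideal.Quotient.mk K)).spanFinrank + K.spanFinrank := by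
  classical
  obtain ⟨t₁, hc₁, hs₁⟩ := Submodule.FG.exists_span_finset_card_eq_spanFinrank
    (IsNoetherian.noetherian (J.map (Ideal.Quotient.mk K)))
  obtain ⟨t₂, hc₂, hs₂⟩ := Submodule.FG.exists_span_finset_card_eq_spanFinrank
    (IsNoetherian.noetherian K)
  have hsurj : Function.Surjective (Ideal.Quotient.mk K) := Ideal.Quotient.mk_surjective
  let t₁' : Finset A := t₁.image (Function.surjInv hsurj)
  have himg : (Ideal.Quotient.mk K) '' (t₁' : Set A) = (t₁ : Set (A ⧸ K)) := by
    rw [Finset.coe_image, ← Set.image_comp]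
    have : (Ideal.Quotient.mk K) ∘ Function.surjInv hsurj = id :=
      funext fun y => Function.surjInv_eq hsurj y
    rw [this, Set.image_id]
  have hJ : J = Ideal.span (t₁' : Set A) ⊔ K := by
    apply Groth.Agent.Lead.RLR.eq_span_sup_of_map_eq K J hKJ
    rw [himg]
    exact hs₁.symm
  have hJ' : J = Submodule.span A ((t₁' ∪ t₂ : Finset A) : Set A) := by
    rw [Finset.coe_union, Submodule.span_union]
    rw [hJ]
    congr 1
    exact hs₂.symm
  have hle : J.spanFinrank ≤ (t₁' ∪ t₂).card := by
    conv_lhs => rw [hJ']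
    refine (Submodule.spanFinrank_span_le_ncard_of_finite (Finset.finite_toSet _)).trans ?_
    rw [Set.ncard_coe_finset]
  refine hle.trans ?_
  rw [← hc₁, ← hc₂]
  refine (Finset.card_union_le _ _).trans ?_
  gcongr
  exact Finset.card_image_le

end Groth.Agent.H47.CI
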