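import Mathlib
import Groth.Agent.Lead.RegularLocal4
import Groth.Agent.H47.CI.Exchange

/-!
# The complete intersection defect is independent of the regular presentation

For a surjection `ρ : T → P` of regular local rings and a proper ideal `I` of `P`,
`μ(ρ⁻¹ I) + dim P = μ(I) + dim T` (`spanFinrank_comap_add`).
-/

set_option autoImplicit false
set_option linter.style.haveILetI false
set_option linter.unusedSectionVars false

universe u

namespace Groth.Agent.H47.CI

open IsLocalRing Groth.Agent.Lead.RLR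

/-- `μ(J/K) + dim R ≤ μ(J) + dim R/K` for `K ≤ J ≠ ⊤` in a regular local ring `R` with `R/K`
regular. -/
theorem spanFinrank_map_add_le_aux : ∀ (d : ℕ) (R : Type u) [CommRing R] [IsRegularLocalRing R],
    ringKrullDim R = (d : WithBot ℕ∞) → ∀ (K : Ideal R) [IsRegularLocalRing (R ⧸ K)] (e : ℕ),
    ringKrullDim (R ⧸ K) = (e : WithBot ℕ∞) → ∀ J : Ideal R, K ≤ J → J ≠ ⊤ →
    (J.map (Ideal.Quotient.mk K)).spanFinrank + d ≤ J.spanFinrank + e := by
  intro d
  induction d using Nat.strong_induction_on with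
  | _ d ih =>
  intro R _ _ hd K _ e he J hKJ hJ
  classical
  have hJm : J ≤ maximalIdeal R := IsLocalRing.le_maximalIdeal hJ
  have hKm : K ≤ maximalIdeal R := hKJ.trans hJm
  by_cases hK2 : K ≤ maximalIdeal R ^ 2
  · have hK0 : K = ⊥ := eq_bot_of_le_sq R K hK2
    subst hK0
    have hed : e = d := by
      have h1 := ringKrullDim_eq_of_ringEquiv (RingEquiv.quotientBot R)
      rw [he, hd] at h1
      exact_mod_cast h1
    subst hed
    have h2 : J.map (Ideal.Quotient.mk (⊥ : Ideal R)) =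
        J.map ((RingEquiv.quotientBot R).symm : R →+* R ⧸ (⊥ : Ideal R)) := rfl
    rw [h2]
    have := Ideal.spanFinrank_map_eq_of_ringEquiv (RingEquiv.quotientBot R).symm J
    change (J.map ((RingEquiv.quotientBot R).symm : R →+* R ⧸ (⊥ : Ideal R))).spanFinrank = _
      at this
    omega
  · obtain ⟨a, haK, ha2⟩ := Set.not_subset.mp hK2
    have ham : a ∈ maximalIdeal R := hKm haK
    obtain ⟨t, htcard, htspan⟩ := exists_finset_span_insert R a ham ha2
    obtain ⟨hreg, hdim, -⟩ := quotient_regular R a t htspan (le_of_eq htcard)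
    haveI := hreg
    obtain ⟨d₁, hd₁, -⟩ := exists_ringKrullDim_eq (R ⧸ Ideal.span {a})
    have hdd : d₁ + 1 = d := by
      rw [hd₁, hd] at hdim
      exact_mod_cast hdim
    subst hdd
    have hle : Ideal.span {a} ≤ K := (Ideal.span_singleton_le_iff_mem _).mpr haK
    let qa := Ideal.Quotient.mk (Ideal.span {a})
    let K₁ := K.map qa
    let J₁ := J.map qa
    let ε : ((R ⧸ Ideal.span {a}) ⧸ K₁) ≃+* R ⧸ K := DoubleQuot.quotQuotEquivQuotOfLE hle
    haveI : IsRegularLocalRing ((R ⧸ Ideal.span {a}) ⧸ K₁) :=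
      IsRegularLocalRing.of_ringEquiv ε.symm
    have he₁ : ringKrullDim ((R ⧸ Ideal.span {a}) ⧸ K₁) = (e : WithBot ℕ∞) := by
      rw [ringKrullDim_eq_of_ringEquiv ε, he]
    have hKJ₁ : K₁ ≤ J₁ := Ideal.map_mono hKJ
    have hJ₁ : J₁ ≠ ⊤ := by
      intro h
      apply hJ
      have h1 := Ideal.comap_map_of_surjective qa Ideal.Quotient.mk_surjective J
      rw [← RingHom.ker_eq_comap_bot, Ideal.mk_ker] at h1
      have h2 : J ⊔ Ideal.span {a} = J := sup_eq_left.mpr (hle.trans hKJ)
      rw [h2] at h1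
      rw [← h1]
      change Ideal.comap qa J₁ = ⊤
      rw [h, Ideal.comap_top]
    have hIH := ih d₁ (Nat.lt_succ_self d₁) (R ⧸ Ideal.span {a}) hd₁ K₁ e he₁ J₁ hKJ₁ hJ₁
    have hex := spanFinrank_map_mk_add_one_le a ha2 J (hKJ haK) hJ
    -- identify `J₁ / K₁` with `J / K`
    have hmap : (J₁.map (Ideal.Quotient.mk K₁)).map ε =
        J.map (Ideal.Quotient.mk K) := by
      change ((J.map qa).map (Ideal.Quotient.mk K₁)).map (ε : _ →+* R ⧸ K) = _
      rw [Ideal.map_map, Ideal.map_map]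
      congr 1
    have hsf := Ideal.spanFinrank_map_eq_of_ringEquiv ε (J₁.map (Ideal.Quotient.mk K₁))
    rw [hmap] at hsf
    change (J.map qa).spanFinrank + 1 ≤ _ at hex
    change (J₁.map (Ideal.Quotient.mk K₁)).spanFinrank + d₁ ≤ (J.map qa).spanFinrank + e at hIH
    omega

theorem spanFinrank_map_add_le (R : Type u) [CommRing R] [IsRegularLocalRing R] (d : ℕ)
    (hd : ringKrullDim R = (d : WithBot ℕ∞)) (K : Ideal R) [IsRegularLocalRing (R ⧸ K)] (e : ℕ)
    (he : ringKrullDim (R ⧸ K) = (e : WithBot ℕ∞)) (J : Ideal R) (hKJ : K ≤ J) (hJ : J ≠ ⊤) :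
    (J.map (Ideal.Quotient.mk K)).spanFinrank + d ≤ J.spanFinrank + e :=
  spanFinrank_map_add_le_aux d R hd K e he J hKJ hJ

/-- `μ(K) + dim R/K ≤ dim R` when `R` and `R/K` are regular local rings. -/
theorem spanFinrank_ker_add_le_aux : ∀ (d : ℕ) (R : Type u) [CommRing R] [IsRegularLocalRing R],
    ringKrullDim R = (d : WithBot ℕ∞) → ∀ (K : Ideal R) [IsRegularLocalRing (R ⧸ K)] (e : ℕ),
    ringKrullDim (R ⧸ K) = (e : WithBot ℕ∞) → K.spanFinrank + e ≤ d := by
  intro d
  induction d using Nat.strong_induction_on with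
  | _ d ih =>
  intro R _ _ hd K _ e he
  classical
  have hK : K ≠ ⊤ := by
    intro h
    have : Nontrivial (R ⧸ K) := inferInstance
    exact (Ideal.Quotient.nontrivial_iff.mp this) h
  have hKm : K ≤ maximalIdeal R := IsLocalRing.le_maximalIdeal hK
  by_cases hK2 : K ≤ maximalIdeal R ^ 2
  · have hK0 : K = ⊥ := eq_bot_of_le_sq R K hK2
    subst hK0
    have hed : e = d := by
      have h1 := ringKrullDim_eq_of_ringEquiv (RingEquiv.quotientBot R)
      rw [he, hd] at h1
      exact_mod_cast h1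
    rw [Submodule.spanFinrank_bot]
    omega
  · obtain ⟨a, haK, ha2⟩ := Set.not_subset.mp hK2
    have ham : a ∈ maximalIdeal R := hKm haK
    obtain ⟨t, htcard, htspan⟩ := exists_finset_span_insert R a ham ha2
    obtain ⟨hreg, hdim, -⟩ := quotient_regular R a t htspan (le_of_eq htcard)
    haveI := hreg
    obtain ⟨d₁, hd₁, -⟩ := exists_ringKrullDim_eq (R ⧸ Ideal.span {a})
    have hdd : d₁ + 1 = d := by
      rw [hd₁, hd] at hdim
      exact_mod_cast hdim
    subst hdd
    have hle : Ideal.span {a} ≤ K := (Ideal.span_singleton_le_iff_mem _).mpr haK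
    let qa := Ideal.Quotient.mk (Ideal.span {a})
    let K₁ := K.map qa
    let ε : ((R ⧸ Ideal.span {a}) ⧸ K₁) ≃+* R ⧸ K := DoubleQuot.quotQuotEquivQuotOfLE hle
    haveI : IsRegularLocalRing ((R ⧸ Ideal.span {a}) ⧸ K₁) :=
      IsRegularLocalRing.of_ringEquiv ε.symm
    have he₁ : ringKrullDim ((R ⧸ Ideal.span {a}) ⧸ K₁) = (e : WithBot ℕ∞) := by
      rw [ringKrullDim_eq_of_ringEquiv ε, he]
    have hIH := ih d₁ (Nat.lt_succ_self d₁) (R ⧸ Ideal.span {a}) hd₁ K₁ e he₁
    have hlift := spanFinrank_le_map_add (Ideal.span {a}) K hle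
    have h1 : (Ideal.span {a} : Ideal R).spanFinrank ≤ 1 := by
      refine (Submodule.spanFinrank_span_le_ncard_of_finite (Set.finite_singleton a)).trans ?_
      rw [Set.ncard_singleton]
    change K.spanFinrank ≤ K₁.spanFinrank + _ at hlift
    omega

theorem spanFinrank_ker_add_le (R : Type u) [CommRing R] [IsRegularLocalRing R] (d : ℕ)
    (hd : ringKrullDim R = (d : WithBot ℕ∞)) (K : Ideal R) [IsRegularLocalRing (R ⧸ K)] (e : ℕ)
    (he : ringKrullDim (R ⧸ K) = (e : WithBot ℕ∞)) : K.spanFinrank + e ≤ d :=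
  spanFinrank_ker_add_le_aux d R hd K e he

/-- Invariance of the complete intersection defect under a surjection of regular local rings. -/
theorem spanFinrank_comap_add {T P : Type u} [CommRing T] [CommRing P] [IsRegularLocalRing T]
    [IsRegularLocalRing P] (ρ : T →+* P) (hρ : Function.Surjective ρ) (dT dP : ℕ)
    (hdT : ringKrullDim T = (dT : WithBot ℕ∞)) (hdP : ringKrullDim P = (dP : WithBot ℕ∞))
    (I : Ideal P) (hI : I ≠ ⊤) :
    (I.comap ρ).spanFinrank + dP = I.spanFinrank + dT := by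
  let K := RingHom.ker ρ
  let ε : T ⧸ K ≃+* P := RingHom.quotientKerEquivOfSurjective hρ
  haveI : IsRegularLocalRing (T ⧸ K) := IsRegularLocalRing.of_ringEquiv ε.symm
  have he : ringKrullDim (T ⧸ K) = (dP : WithBot ℕ∞) := by
    rw [ringKrullDim_eq_of_ringEquiv ε, hdP]
  let J := I.comap ρ
  have hKJ : K ≤ J := by
    intro x hx
    change ρ x ∈ I
    rw [show ρ x = 0 from hx]
    exact zero_mem _
  have hJ : J ≠ ⊤ := by
    intro h
    apply hI
    rw [← Ideal.map_comap_of_surjective ρ hρ I]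
    change Ideal.map ρ J = ⊤
    rw [h]
    exact Ideal.map_top ρ
  have hmap : (J.map (Ideal.Quotient.mk K)).map ε = I := by
    change (J.map (Ideal.Quotient.mk K)).map (ε : _ →+* P) = I
    rw [Ideal.map_map]
    have : (ε : T ⧸ K →+* P).comp (Ideal.Quotient.mk K) = ρ := by
      ext x
      rfl
    rw [this]
    exact Ideal.map_comap_of_surjective ρ hρ I
  have hsf := Ideal.spanFinrank_map_eq_of_ringEquiv ε (J.map (Ideal.Quotient.mk K))
  rw [hmap] at hsf
  have h1 := spanFinrank_map_add_le T dT hdT K dP he J hKJ hJ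
  have h2 := spanFinrank_le_map_add K J hKJ
  have h3 := spanFinrank_ker_add_le T dT hdT K dP he
  change J.spanFinrank + dP = _
  omega

end Groth.Agent.H47.CI
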