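import Mathlib
import Groth.Agent.H47.CI.Defect
import Groth.Agent.H46.CIField
import Groth.Agent.H96.CMGens

/-!
# Numerical criterion for ideals generated by regular sequences in regular local rings,
and independence of the regular presentation
-/

set_option autoImplicit false
set_option linter.style.haveILetI false
set_option linter.unusedSectionVars false

universe u

namespace Groth.Agent.H47.CI

open IsLocalRing RingTheory.Sequence

section numeric

variable (R : Type u) [CommRing R] [IsRegularLocalRing R]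

theorem supportDim_quotient_ofList (rs : List R) :
    Module.supportDim R (R ⧸ (Ideal.ofList rs • ⊤ : Submodule R R)) =
      ringKrullDim (R ⧸ Ideal.ofList rs) := by
  have h : (Ideal.ofList rs • ⊤ : Submodule R R) = Ideal.ofList rs := by
    rw [smul_eq_mul, Ideal.mul_top]
  rw [h]
  exact Module.supportDim_quotient_eq_ringKrullDim _

/-- a list of generators of length `dim R - dim R/I` is a regular sequence -/
theorem isRegular_of_length_add_le (rs : List R) (hI : Ideal.ofList rs ≠ ⊤) (d e : ℕ)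
    (hd : ringKrullDim R = (d : WithBot ℕ∞))
    (he : ringKrullDim (R ⧸ Ideal.ofList rs) = (e : WithBot ℕ∞)) (h : rs.length + e ≤ d) :
    IsRegular R rs := by
  have hIm : Ideal.ofList rs ≤ maximalIdeal R := IsLocalRing.le_maximalIdeal hI
  have hmem : ∀ x ∈ rs, x ∈ maximalIdeal R := fun x hx => hIm (Ideal.subset_span hx)
  have hkrull := ringKrullDim_le_ringKrullDim_quotient_add_spanFinrank (Ideal.ofList rs) (by
    rw [IsLocalRing.ringJacobson_eq_maximalIdeal]
    exact hIm)
  rw [hd, he] at hkrull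
  have hk' : d ≤ e + (Ideal.ofList rs).spanFinrank := by exact_mod_cast hkrull
  have hμ := Groth.Agent.H96.CMGens.spanFinrank_ofList_le rs
  have hlen : e + rs.length = d := by omega
  have hCM : LocCoh.IsCohenMacaulayModule R R :=
    (Groth.Agent.H46.CIField.isCM_of_isRegularLocalRing R).supportDim_eq_depth
  refine ⟨Groth.Agent.H29.CML.isWeaklyRegular_of_supportDim_eq rs R hCM hmem ?_, ?_⟩
  · rw [supportDim_quotient_ofList, he, Module.supportDim_self_eq_ringKrullDim, hd]
    exact_mod_cast hlen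
  · intro htop
    apply hI
    have h2 : (Ideal.ofList rs • ⊤ : Submodule R R) = Ideal.ofList rs := by
      rw [smul_eq_mul, Ideal.mul_top]
    rw [h2] at htop
    exact htop.symm

/-- a regular sequence of length `c` cuts the dimension down by `c` -/
theorem length_add_eq_of_isRegular (rs : List R) (hreg : IsRegular R rs) (d e : ℕ)
    (hd : ringKrullDim R = (d : WithBot ℕ∞))
    (he : ringKrullDim (R ⧸ Ideal.ofList rs) = (e : WithBot ℕ∞)) : rs.length + e = d := by
  have h := Module.supportDim_add_length_eq_supportDim_of_isRegular (M := R) rs hreg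
  rw [supportDim_quotient_ofList, he, Module.supportDim_self_eq_ringKrullDim, hd] at h
  have : e + rs.length = d := by exact_mod_cast h
  omega

theorem ofList_ne_top_of_isRegular (rs : List R) (hreg : IsRegular R rs) :
    Ideal.ofList rs ≠ ⊤ := by
  intro h
  apply hreg.top_ne_smul
  rw [h, smul_eq_mul, Ideal.mul_top]

/-- numerical criterion -/
theorem exists_isRegular_iff (I : Ideal R) (hI : I ≠ ⊤) (d e : ℕ)
    (hd : ringKrullDim R = (d : WithBot ℕ∞)) (he : ringKrullDim (R ⧸ I) = (e : WithBot ℕ∞)) :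
    (∃ rs : List R, IsRegular R rs ∧ I = Ideal.ofList rs) ↔ I.spanFinrank + e ≤ d := by
  classical
  constructor
  · rintro ⟨rs, hreg, rfl⟩
    have h1 := length_add_eq_of_isRegular R rs hreg d e hd he
    have h2 := Groth.Agent.H96.CMGens.spanFinrank_ofList_le rs
    omega
  · intro h
    obtain ⟨s, hcard, hspan⟩ :=
      Submodule.FG.exists_span_finset_card_eq_spanFinrank (IsNoetherian.noetherian I)
    have hof : Ideal.ofList s.toList = I := by
      rw [← hspan]
      unfold Ideal.ofList
      congr 1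
      ext x
      simp
    refine ⟨s.toList, ?_, hof.symm⟩
    apply isRegular_of_length_add_le R s.toList (by rw [hof]; exact hI) d e hd (by rw [hof]; exact he)
    rw [Finset.length_toList, hcard]
    exact h

end numeric

/-- **Independence of the regular presentation.** If two surjections `π₁ : P₁ → S`, `π₂ : P₂ → S`
from regular local rings are dominated by a regular local ring `T`, and `ker π₁` is generated by a
regular sequence, then so is `ker π₂`. -/
theorem exists_isRegular_of_dominated {T P₁ P₂ S : Type u} [CommRing T] [CommRing P₁] [CommRing P₂]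
    [CommRing S] [Nontrivial S] [IsRegularLocalRing T] [IsRegularLocalRing P₁]
    [IsRegularLocalRing P₂]
    (π₁ : P₁ →+* S) (π₂ : P₂ →+* S) (ρ₁ : T →+* P₁) (ρ₂ : T →+* P₂)
    (hπ₁ : Function.Surjective π₁) (hπ₂ : Function.Surjective π₂)
    (hρ₁ : Function.Surjective ρ₁) (hρ₂ : Function.Surjective ρ₂)
    (hcomm : π₁.comp ρ₁ = π₂.comp ρ₂)
    (h₁ : ∃ rs : List P₁, IsRegular P₁ rs ∧ RingHom.ker π₁ = Ideal.ofList rs) :
    ∃ rs : List P₂, IsRegular P₂ rs ∧ RingHom.ker π₂ = Ideal.ofList rs := by
  obtain ⟨dT, hdT, -⟩ := Groth.Agent.Lead.RLR.exists_ringKrullDim_eq T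
  obtain ⟨d₁, hd₁, -⟩ := Groth.Agent.Lead.RLR.exists_ringKrullDim_eq P₁
  obtain ⟨d₂, hd₂, -⟩ := Groth.Agent.Lead.RLR.exists_ringKrullDim_eq P₂
  have hk₁ : RingHom.ker π₁ ≠ ⊤ := RingHom.ker_ne_top π₁
  have hk₂ : RingHom.ker π₂ ≠ ⊤ := RingHom.ker_ne_top π₂
  haveI : IsLocalRing S := IsLocalRing.of_surjective' π₁ hπ₁
  haveI : IsNoetherianRing S := isNoetherianRing_of_surjective P₁ S π₁ hπ₁
  obtain ⟨e, he, -⟩ := Groth.Agent.Lead.RLR.exists_ringKrullDim_eq S
  have he₁ : ringKrullDim (P₁ ⧸ RingHom.ker π₁) = (e : WithBot ℕ∞) := by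
    rw [ringKrullDim_eq_of_ringEquiv (RingHom.quotientKerEquivOfSurjective hπ₁), he]
  have he₂ : ringKrullDim (P₂ ⧸ RingHom.ker π₂) = (e : WithBot ℕ∞) := by
    rw [ringKrullDim_eq_of_ringEquiv (RingHom.quotientKerEquivOfSurjective hπ₂), he]
  have hnum₁ := (exists_isRegular_iff P₁ (RingHom.ker π₁) hk₁ d₁ e hd₁ he₁).mp h₁
  rw [exists_isRegular_iff P₂ (RingHom.ker π₂) hk₂ d₂ e hd₂ he₂]
  have hc₁ := spanFinrank_comap_add ρ₁ hρ₁ dT d₁ hdT hd₁ (RingHom.ker π₁) hk₁
  have hc₂ := spanFinrank_comap_add ρ₂ hρ₂ dT d₂ hdT hd₂ (RingHom.ker π₂) hk₂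
  have hJ : (RingHom.ker π₁).comap ρ₁ = (RingHom.ker π₂).comap ρ₂ := by
    rw [RingHom.comap_ker, RingHom.comap_ker, hcomm]
  rw [hJ] at hc₁
  omega

end Groth.Agent.H47.CI
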