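import Mathlib
import Groth.Prelude.Def_Pi1
import Groth.Agent.H47.CI.ComplDominate
import Groth.Agent.H47.CI.MuDescent
import Groth.Agent.H47.CI.Numeric
import Groth.Agent.H26.ComplQuot
import Groth.Agent.Lead.CompletionIAdic

/-!
# Absolute complete intersections: quotients of regular local rings
-/

set_option autoImplicit false
set_option linter.style.haveILetI false
set_option linter.unusedSectionVars false

universe u

namespace Groth.Agent.H47.CI

open IsLocalRing RingTheory.Sequence

section Core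

/-- two complete regular presentations of the same ring: the kernels are simultaneously generated
by regular sequences. -/
theorem exists_isRegular_of_complete {A P₁ P₂ : Type u} [CommRing A] [CommRing P₁] [CommRing P₂]
    [Nontrivial A]
    [IsRegularLocalRing P₁] [IsAdicComplete (maximalIdeal P₁) P₁]
    [IsRegularLocalRing P₂] [IsAdicComplete (maximalIdeal P₂) P₂]
    (π₁ : P₁ →+* A) (π₂ : P₂ →+* A) (hπ₁ : Function.Surjective π₁)
    (hπ₂ : Function.Surjective π₂)
    (h₁ : ∃ rs : List P₁, IsRegular P₁ rs ∧ RingHom.ker π₁ = Ideal.ofList rs) :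
    ∃ rs : List P₂, IsRegular P₂ rs ∧ RingHom.ker π₂ = Ideal.ofList rs := by
  obtain ⟨T, _, _, ρ₁, ρ₂, hρ₁, hρ₂, hcomm⟩ := exists_dominating_complete π₁ π₂ hπ₁ hπ₂
  exact exists_isRegular_of_dominated π₁ π₂ ρ₁ ρ₂ hπ₁ hπ₂ hρ₁ hρ₂ hcomm h₁

end Core

section Completion

variable (R : Type u) [CommRing R] [IsRegularLocalRing R] (I : Ideal R) [IsLocalRing (R ⧸ I)]

local notation "R̂" => AdicCompletion (maximalIdeal R) R

theorem ringKrullDim_quotient_map_completion :
    ringKrullDim (R̂ ⧸ I.map (algebraMap R R̂)) = ringKrullDim (R ⧸ I) := by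
  obtain ⟨e⟩ := Groth.Agent.H26.ComplQuot.nonempty_adicCompletion_quotient_equiv R I
  rw [← ringKrullDim_eq_of_ringEquiv e]
  exact Groth.Agent.Lead.RLR.ringKrullDim_adicCompletion_eq (R ⧸ I) (maximalIdeal (R ⧸ I))
    (Ideal.IsMaximal.ne_top inferInstance)

theorem spanFinrank_map_completion :
    (I.map (algebraMap R R̂)).spanFinrank = I.spanFinrank := by
  haveI : IsNoetherianRing R̂ := Groth.Agent.H20.isNoetherianRing_adicCompletion _
  haveI : Module.FaithfullyFlat R R̂ := Module.FaithfullyFlat.of_flat_of_isLocalHom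
  exact le_antisymm (Ideal.spanFinrank_map_le_of_fg _ (IsNoetherian.noetherian I))
    (spanFinrank_le_spanFinrank_map I)

/-- an ideal of a regular local ring is generated by a regular sequence iff its extension to the
completion is -/
theorem exists_isRegular_map_completion_iff :
    (∃ rs : List R, IsRegular R rs ∧ I = Ideal.ofList rs) ↔
      ∃ rs : List R̂, IsRegular R̂ rs ∧ I.map (algebraMap R R̂) = Ideal.ofList rs := by
  haveI : IsRegularLocalRing R̂ := Groth.Agent.Lead.RLR.isRegularLocalRing_adicCompletion R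
  have hI : I ≠ ⊤ := Groth.Agent.H26.ComplQuot.ne_top_of_isLocalRing R I
  have hI' : I.map (algebraMap R R̂) ≠ ⊤ := by
    intro h
    have := Groth.Agent.H26.ComplQuot.extIdeal_le_maximalIdeal R I hI
    rw [Groth.Agent.H26.ComplQuot.extIdeal, h] at this
    exact (IsLocalRing.maximalIdeal.isMaximal R̂).ne_top (top_le_iff.mp this)
  obtain ⟨d, hd, -⟩ := Groth.Agent.Lead.RLR.exists_ringKrullDim_eq R
  haveI : IsNoetherianRing (R ⧸ I) := inferInstance
  obtain ⟨e, he, -⟩ := Groth.Agent.Lead.RLR.exists_ringKrullDim_eq (R ⧸ I)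
  have hd' : ringKrullDim R̂ = (d : WithBot ℕ∞) := by
    rw [Groth.Agent.Lead.RLR.ringKrullDim_adicCompletion_eq R (maximalIdeal R)
      (Ideal.IsMaximal.ne_top inferInstance), hd]
  have he' : ringKrullDim (R̂ ⧸ I.map (algebraMap R R̂)) = (e : WithBot ℕ∞) := by
    rw [ringKrullDim_quotient_map_completion, he]
  rw [exists_isRegular_iff R I hI d e hd he,
    exists_isRegular_iff R̂ (I.map (algebraMap R R̂)) hI' d e hd' he', spanFinrank_map_completion]

end Completion

section Main

variable (R : Type u) [CommRing R] [IsRegularLocalRing R] (I : Ideal R) [IsLocalRing (R ⧸ I)]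

local notation "R̂" => AdicCompletion (maximalIdeal R) R

theorem isCompleteIntersection_quotient_of_isRegular
    (h : ∃ rs : List R, IsRegular R rs ∧ I = Ideal.ofList rs) :
    Pi1.IsCompleteIntersection (R ⧸ I) := by
  haveI : IsRegularLocalRing R̂ := Groth.Agent.Lead.RLR.isRegularLocalRing_adicCompletion R
  have hI : I ≠ ⊤ := Groth.Agent.H26.ComplQuot.ne_top_of_isLocalRing R I
  obtain ⟨rs', hreg', hI'⟩ := (exists_isRegular_map_completion_iff R I).mp h
  obtain ⟨e⟩ := Groth.Agent.H26.ComplQuot.nonempty_adicCompletion_quotient_equiv R I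
  refine ⟨R̂, inferInstance, inferInstance, rs', ?_, hreg', ⟨e.trans (Ideal.quotEquivOfEq hI')⟩⟩
  intro r hr
  have h1 : r ∈ I.map (algebraMap R R̂) := by
    rw [hI']
    exact Ideal.subset_span hr
  exact Groth.Agent.H26.ComplQuot.extIdeal_le_maximalIdeal R I hI h1

theorem exists_isRegular_of_isCompleteIntersection_quotient
    (h : Pi1.IsCompleteIntersection (R ⧸ I)) :
    ∃ rs : List R, IsRegular R rs ∧ I = Ideal.ofList rs := by
  obtain ⟨B, _, _, rs, hmem, hreg, ⟨e⟩⟩ := h
  haveI : IsRegularLocalRing R̂ := Groth.Agent.Lead.RLR.isRegularLocalRing_adicCompletion R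
  haveI : IsRegularLocalRing (AdicCompletion (maximalIdeal B) B) :=
    Groth.Agent.Lead.RLR.isRegularLocalRing_adicCompletion B
  let J : Ideal B := Ideal.ofList rs
  have hJm : J ≤ maximalIdeal B := by
    rw [Ideal.span_le]
    exact fun r hr => hmem r hr
  have hJ : J ≠ ⊤ := fun h => (IsLocalRing.maximalIdeal.isMaximal B).ne_top
    (top_le_iff.mp (h ▸ hJm))
  haveI : Nontrivial (B ⧸ J) := Ideal.Quotient.nontrivial_iff.mpr hJ
  haveI : IsLocalRing (B ⧸ J) :=
    IsLocalRing.of_surjective' (Ideal.Quotient.mk J) Ideal.Quotient.mk_surjective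
  let A := AdicCompletion (maximalIdeal (R ⧸ I)) (R ⧸ I)
  -- `B ⧸ J` is complete
  haveI : IsAdicComplete (maximalIdeal (B ⧸ J)) (B ⧸ J) := by
    have h1 : (maximalIdeal A).map e = maximalIdeal (B ⧸ J) := by
      change (maximalIdeal A).map (e : A →+* B ⧸ J) = _
      exact IsLocalRing.map_maximalIdeal_of_surjective _ e.surjective
    rw [← h1]
    exact (IsAdicComplete.congr_ringEquiv (maximalIdeal A) e).mpr inferInstance
  obtain ⟨eB⟩ := Groth.Agent.H26.ComplQuot.nonempty_adicCompletion_quotient_equiv B J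
  obtain ⟨eR⟩ := Groth.Agent.H26.ComplQuot.nonempty_adicCompletion_quotient_equiv R I
  let eQ : (B ⧸ J) ≃+* AdicCompletion (maximalIdeal (B ⧸ J)) (B ⧸ J) :=
    (AdicCompletion.ofAlgEquiv (maximalIdeal (B ⧸ J))).toRingEquiv
  let π₁ : AdicCompletion (maximalIdeal B) B →+* B ⧸ J :=
    (RingEquiv.toRingHom (eB.symm.trans eQ.symm)).comp
      (Ideal.Quotient.mk (J.map (algebraMap B (AdicCompletion (maximalIdeal B) B))))
  let π₂ : R̂ →+* B ⧸ J :=
    (RingEquiv.toRingHom (eR.symm.trans e)).comp
      (Ideal.Quotient.mk (I.map (algebraMap R R̂)))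
  have hπ₁ : Function.Surjective π₁ :=
    (eB.symm.trans eQ.symm).surjective.comp Ideal.Quotient.mk_surjective
  have hπ₂ : Function.Surjective π₂ :=
    (eR.symm.trans e).surjective.comp Ideal.Quotient.mk_surjective
  have hk₁ : RingHom.ker π₁ = J.map (algebraMap B (AdicCompletion (maximalIdeal B) B)) := by
    rw [RingHom.ker_equiv_comp, Ideal.mk_ker]
  have hk₂ : RingHom.ker π₂ = I.map (algebraMap R R̂) := by
    rw [RingHom.ker_equiv_comp, Ideal.mk_ker]
  have h₁ : ∃ rs' : List (AdicCompletion (maximalIdeal B) B),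
      IsRegular (AdicCompletion (maximalIdeal B) B) rs' ∧ RingHom.ker π₁ = Ideal.ofList rs' := by
    rw [hk₁]
    exact (exists_isRegular_map_completion_iff B J).mp ⟨rs, hreg, rfl⟩
  have h₂ := exists_isRegular_of_complete π₁ π₂ hπ₁ hπ₂ h₁
  rw [hk₂] at h₂
  exact (exists_isRegular_map_completion_iff R I).mpr h₂

/-- S2166 -/
theorem isCompleteIntersection_quotient_iff :
    Pi1.IsCompleteIntersection (R ⧸ I) ↔
      ∃ rs : List R, Ideal.ofList rs = I ∧ RingTheory.Sequence.IsRegular R rs := by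
  constructor
  · intro h
    obtain ⟨rs, hreg, hI⟩ := exists_isRegular_of_isCompleteIntersection_quotient R I h
    exact ⟨rs, hI.symm, hreg⟩
  · rintro ⟨rs, hI, hreg⟩
    exact isCompleteIntersection_quotient_of_isRegular R I ⟨rs, hreg, hI.symm⟩

end Main

section Transfer

/-- a local ring isomorphic to the completion of `A` is a complete intersection iff `A` is -/
theorem isCompleteIntersection_iff_of_ringEquiv_completion (A Q : Type u) [CommRing A]
    [IsLocalRing A] [IsNoetherianRing A] [CommRing Q] [IsLocalRing Q]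
    (e : AdicCompletion (maximalIdeal A) A ≃+* Q) :
    Pi1.IsCompleteIntersection A ↔ Pi1.IsCompleteIntersection Q := by
  haveI : IsAdicComplete (maximalIdeal Q) Q := by
    have h1 : (maximalIdeal (AdicCompletion (maximalIdeal A) A)).map e = maximalIdeal Q := by
      change (maximalIdeal (AdicCompletion (maximalIdeal A) A)).map
        (e : AdicCompletion (maximalIdeal A) A →+* Q) = _
      exact IsLocalRing.map_maximalIdeal_of_surjective _ e.surjective
    rw [← h1]
    exact (IsAdicComplete.congr_ringEquiv _ e).mpr inferInstance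
  let eQ : Q ≃+* AdicCompletion (maximalIdeal Q) Q :=
    (AdicCompletion.ofAlgEquiv (maximalIdeal Q)).toRingEquiv
  constructor
  · rintro ⟨B, i1, i2, rs, hmem, hreg, ⟨e'⟩⟩
    exact ⟨B, i1, i2, rs, hmem, hreg, ⟨eQ.symm.trans (e.symm.trans e')⟩⟩
  · rintro ⟨B, i1, i2, rs, hmem, hreg, ⟨e'⟩⟩
    exact ⟨B, i1, i2, rs, hmem, hreg, ⟨e.trans (eQ.trans e')⟩⟩

/-- S2169 -/
theorem exists_isRegular_ker_of_isCompleteIntersection {A R : Type u} [CommRing A] [CommRing R]
    [IsNoetherianRing A] [IsLocalRing A] [IsAdicComplete (IsLocalRing.maximalIdeal A) A]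
    [IsRegularLocalRing R] (f : R →+* A) (hf : Function.Surjective f)
    (hA : Pi1.IsCompleteIntersection A) :
    ∃ rs : List R, Ideal.ofList rs = RingHom.ker f ∧ RingTheory.Sequence.IsRegular R rs := by
  let eA : A ≃+* AdicCompletion (maximalIdeal A) A :=
    (AdicCompletion.ofAlgEquiv (maximalIdeal A)).toRingEquiv
  let eq : (R ⧸ RingHom.ker f) ≃+* A := RingHom.quotientKerEquivOfSurjective hf
  haveI : Nontrivial (R ⧸ RingHom.ker f) :=
    Ideal.Quotient.nontrivial_iff.mpr (RingHom.ker_ne_top f)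
  haveI : IsLocalRing (R ⧸ RingHom.ker f) :=
    IsLocalRing.of_surjective' (Ideal.Quotient.mk _) Ideal.Quotient.mk_surjective
  have h1 : Pi1.IsCompleteIntersection (R ⧸ RingHom.ker f) :=
    (isCompleteIntersection_iff_of_ringEquiv_completion A (R ⧸ RingHom.ker f)
      (eA.symm.trans eq.symm)).mp hA
  exact (isCompleteIntersection_quotient_iff R (RingHom.ker f)).mp h1

/-- S5178 -/
theorem sub_spanFinrank_le_and_eq_iff (A : Type u) [CommRing A] [IsLocalRing A]
    [IsNoetherianRing A] (B : Type u) [CommRing B] [IsRegularLocalRing B] (I : Ideal B)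
    (hpres : Nonempty (AdicCompletion (IsLocalRing.maximalIdeal A) A ≃+* B ⧸ I)) (d e : ℕ)
    (hd : ringKrullDim A = (d : WithBot ℕ∞)) (he : ringKrullDim B = (e : WithBot ℕ∞)) :
    (e : ℤ) - (I.spanFinrank : ℤ) ≤ (d : ℤ) ∧
      ((e : ℤ) - (I.spanFinrank : ℤ) = (d : ℤ) ↔ Pi1.IsCompleteIntersection A) := by
  obtain ⟨ε⟩ := hpres
  haveI hnt : Nontrivial (B ⧸ I) := ε.injective.nontrivial
  have hI : I ≠ ⊤ := Ideal.Quotient.nontrivial_iff.mp hnt
  haveI : IsLocalRing (B ⧸ I) :=
    IsLocalRing.of_surjective' (Ideal.Quotient.mk _) Ideal.Quotient.mk_surjective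
  have hdQ : ringKrullDim (B ⧸ I) = (d : WithBot ℕ∞) := by
    rw [← ringKrullDim_eq_of_ringEquiv ε,
      Groth.Agent.Lead.RLR.ringKrullDim_adicCompletion_eq A (maximalIdeal A)
        (Ideal.IsMaximal.ne_top inferInstance), hd]
  have hle : e ≤ d + I.spanFinrank := by
    have h1 := ringKrullDim_le_ringKrullDim_quotient_add_spanFinrank I
      (by rw [IsLocalRing.ringJacobson_eq_maximalIdeal]
          exact IsLocalRing.le_maximalIdeal hI)
    rw [he, hdQ] at h1
    exact_mod_cast h1
  have hiff : Pi1.IsCompleteIntersection A ↔ I.spanFinrank + d ≤ e := by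
    rw [isCompleteIntersection_iff_of_ringEquiv_completion A (B ⧸ I) ε,
      isCompleteIntersection_quotient_iff B I, ← exists_isRegular_iff B I hI e d he hdQ]
    constructor
    · rintro ⟨rs, h1, h2⟩
      exact ⟨rs, h2, h1.symm⟩
    · rintro ⟨rs, h1, h2⟩
      exact ⟨rs, h2.symm, h1⟩
  refine ⟨by omega, ?_⟩
  rw [hiff]
  omega

end Transfer

end Groth.Agent.H47.CI
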