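import Mathlib

/-!
# Domination of two essentially-finite-type presentations by a localized polynomial ring
-/

set_option autoImplicit false
set_option linter.style.haveILetI false
set_option linter.unusedSectionVars false

universe u

namespace Groth.Agent.H47.CI

open IsLocalRing

/-- Two surjections `π₁ : R₁ → S`, `π₂ : R₂ → S` of local `k`-algebras essentially of finite type
are dominated by a regular local `k`-algebra `T` essentially of finite type (a localization of a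
polynomial ring at a prime). -/
theorem exists_dominating (k : Type u) [Field k] {R₁ R₂ S : Type u} [CommRing R₁] [CommRing R₂]
    [CommRing S] [Algebra k R₁] [Algebra k R₂] [Algebra k S] [IsLocalRing R₁] [IsLocalRing R₂]
    [IsLocalRing S] [h₁ : Algebra.EssFiniteType k R₁] [h₂ : Algebra.EssFiniteType k R₂]
    (π₁ : R₁ →ₐ[k] S) (π₂ : R₂ →ₐ[k] S) (hπ₁ : Function.Surjective π₁)
    (hπ₂ : Function.Surjective π₂) :
    ∃ (T : Type u) (_ : CommRing T) (_ : Algebra k T) (_ : IsRegularLocalRing T)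
      (_ : Algebra.EssFiniteType k T) (ρ₁ : T →ₐ[k] R₁) (ρ₂ : T →ₐ[k] R₂),
      Function.Surjective ρ₁ ∧ Function.Surjective ρ₂ ∧ π₁.comp ρ₁ = π₂.comp ρ₂ := by
  classical
  obtain ⟨σ₁, hσ₁⟩ := (Algebra.essFiniteType_iff (R := k) (S := R₁)).mp h₁
  obtain ⟨σ₂, hσ₂⟩ := (Algebra.essFiniteType_iff (R := k) (S := R₂)).mp h₂
  let ι : Type u := ↥σ₁ ⊕ ↥σ₂
  let A := MvPolynomial ι k
  let ℓ₁ : ↥σ₂ → R₁ := fun t => Function.surjInv hπ₁ (π₂ t.1)
  let ℓ₂ : ↥σ₁ → R₂ := fun s => Function.surjInv hπ₂ (π₁ s.1)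
  have hℓ₁ : ∀ t, π₁ (ℓ₁ t) = π₂ t.1 := fun t => Function.surjInv_eq hπ₁ _
  have hℓ₂ : ∀ s, π₂ (ℓ₂ s) = π₁ s.1 := fun s => Function.surjInv_eq hπ₂ _
  let φ₁ : A →ₐ[k] R₁ := MvPolynomial.aeval (Sum.elim (fun s => s.1) ℓ₁)
  let φ₂ : A →ₐ[k] R₂ := MvPolynomial.aeval (Sum.elim ℓ₂ (fun t => t.1))
  have hψ : π₁.comp φ₁ = π₂.comp φ₂ := by
    apply MvPolynomial.algHom_ext
    rintro (s | t)
    · simp [φ₁, φ₂, hℓ₂]
    · simp [φ₁, φ₂, hℓ₁]
  let ψ : A →ₐ[k] S := π₁.comp φ₁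
  let 𝔫 : Ideal A := (maximalIdeal S).comap ψ
  haveI h𝔫 : 𝔫.IsPrime := Ideal.comap_isPrime ψ (maximalIdeal S)
  haveI : IsLocalHom π₁.toRingHom := IsLocalHom.of_surjective _ hπ₁
  haveI : IsLocalHom π₂.toRingHom := IsLocalHom.of_surjective _ hπ₂
  have hu₁ : ∀ y : 𝔫.primeCompl, IsUnit (φ₁ y) := by
    intro y
    have h1 : ψ y.1 ∉ maximalIdeal S := y.2
    have h2 : IsUnit (ψ y.1) := by
      by_contra h
      exact h1 ((IsLocalRing.mem_maximalIdeal _).mpr h)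
    exact isUnit_of_map_unit π₁.toRingHom (φ₁ y.1) h2
  have hu₂ : ∀ y : 𝔫.primeCompl, IsUnit (φ₂ y) := by
    intro y
    have h1 : ψ y.1 ∉ maximalIdeal S := y.2
    have h2 : IsUnit (ψ y.1) := by
      by_contra h
      exact h1 ((IsLocalRing.mem_maximalIdeal _).mpr h)
    have h3 : ψ y.1 = π₂ (φ₂ y.1) := by
      change (π₁.comp φ₁) y.1 = _
      rw [hψ]
      rfl
    rw [h3] at h2
    exact isUnit_of_map_unit π₂.toRingHom (φ₂ y.1) h2
  let T := Localization.AtPrime 𝔫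
  let ρ₁ : T →ₐ[k] R₁ := IsLocalization.liftAlgHom (M := 𝔫.primeCompl) (f := φ₁) hu₁
  let ρ₂ : T →ₐ[k] R₂ := IsLocalization.liftAlgHom (M := 𝔫.primeCompl) (f := φ₂) hu₂
  have hρ₁ : ∀ a : A, ρ₁ (algebraMap A T a) = φ₁ a := fun a => IsLocalization.lift_eq hu₁ a
  have hρ₂ : ∀ a : A, ρ₂ (algebraMap A T a) = φ₂ a := fun a => IsLocalization.lift_eq hu₂ a
  -- surjectivity
  have hadj₁ : Algebra.adjoin k (σ₁ : Set R₁) ≤ φ₁.range := by
    apply Algebra.adjoin_le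
    intro s hs
    refine ⟨MvPolynomial.X (Sum.inl ⟨s, hs⟩), ?_⟩
    change MvPolynomial.aeval (Sum.elim (fun s : ↥σ₁ => s.1) ℓ₁) (MvPolynomial.X (Sum.inl ⟨s, hs⟩)) = s
    rw [MvPolynomial.aeval_X]
    rfl
  have hadj₂ : Algebra.adjoin k (σ₂ : Set R₂) ≤ φ₂.range := by
    apply Algebra.adjoin_le
    intro s hs
    refine ⟨MvPolynomial.X (Sum.inr ⟨s, hs⟩), ?_⟩
    change MvPolynomial.aeval (Sum.elim ℓ₂ (fun t : ↥σ₂ => t.1)) (MvPolynomial.X (Sum.inr ⟨s, hs⟩)) = s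
    rw [MvPolynomial.aeval_X]
    rfl
  have hsurj₁ : Function.Surjective ρ₁ := by
    intro r
    obtain ⟨t, ht, htu, hrt⟩ := hσ₁ r
    obtain ⟨M, hM⟩ := hadj₁ ht
    obtain ⟨N, hN⟩ := hadj₁ hrt
    have hM𝔫 : M ∈ 𝔫.primeCompl := by
      intro hmem
      have h1 : ψ M ∈ maximalIdeal S := hmem
      have h2 : IsUnit (ψ M) := by
        change IsUnit (π₁ (φ₁ M))
        have : φ₁ M = t := hM
        rw [this]
        exact htu.map π₁
      exact (IsLocalRing.mem_maximalIdeal _).mp h1 h2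
    refine ⟨IsLocalization.mk' T N ⟨M, hM𝔫⟩, ?_⟩
    have h3 : ρ₁ (IsLocalization.mk' T N ⟨M, hM𝔫⟩) * t = r * t := by
      have hM' : φ₁ M = t := hM
      have hN' : φ₁ N = r * t := hN
      calc ρ₁ (IsLocalization.mk' T N ⟨M, hM𝔫⟩) * t
          = ρ₁ (IsLocalization.mk' T N ⟨M, hM𝔫⟩) * ρ₁ (algebraMap A T M) := by rw [hρ₁, hM']
        _ = ρ₁ (IsLocalization.mk' T N ⟨M, hM𝔫⟩ * algebraMap A T M) := (map_mul _ _ _).symm
        _ = ρ₁ (algebraMap A T N) := by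
            congr 1
            exact IsLocalization.mk'_spec T N ⟨M, hM𝔫⟩
        _ = r * t := by rw [hρ₁, hN']
    exact htu.mul_left_injective h3
  have hsurj₂ : Function.Surjective ρ₂ := by
    intro r
    obtain ⟨t, ht, htu, hrt⟩ := hσ₂ r
    obtain ⟨M, hM⟩ := hadj₂ ht
    obtain ⟨N, hN⟩ := hadj₂ hrt
    have hM𝔫 : M ∈ 𝔫.primeCompl := by
      intro hmem
      have h1 : ψ M ∈ maximalIdeal S := hmem
      have h2 : IsUnit (ψ M) := by
        have h3 : ψ M = π₂ (φ₂ M) := by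
          change (π₁.comp φ₁) M = _
          rw [hψ]
          rfl
        rw [h3]
        have : φ₂ M = t := hM
        rw [this]
        exact htu.map π₂
      exact (IsLocalRing.mem_maximalIdeal _).mp h1 h2
    refine ⟨IsLocalization.mk' T N ⟨M, hM𝔫⟩, ?_⟩
    have h3 : ρ₂ (IsLocalization.mk' T N ⟨M, hM𝔫⟩) * t = r * t := by
      have hM' : φ₂ M = t := hM
      have hN' : φ₂ N = r * t := hN
      calc ρ₂ (IsLocalization.mk' T N ⟨M, hM𝔫⟩) * t
          = ρ₂ (IsLocalization.mk' T N ⟨M, hM𝔫⟩) * ρ₂ (algebraMap A T M) := by rw [hρ₂, hM']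
        _ = ρ₂ (IsLocalization.mk' T N ⟨M, hM𝔫⟩ * algebraMap A T M) := (map_mul _ _ _).symm
        _ = ρ₂ (algebraMap A T N) := by
            congr 1
            exact IsLocalization.mk'_spec T N ⟨M, hM𝔫⟩
        _ = r * t := by rw [hρ₂, hN']
    exact htu.mul_left_injective h3
  have hcomm : π₁.comp ρ₁ = π₂.comp ρ₂ := by
    apply AlgHom.coe_ringHom_injective
    apply IsLocalization.ringHom_ext 𝔫.primeCompl
    refine RingHom.ext fun a => ?_
    change π₁ (ρ₁ (algebraMap A T a)) = π₂ (ρ₂ (algebraMap A T a))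
    rw [hρ₁, hρ₂]
    exact congrArg (fun f : A →ₐ[k] S => f a) hψ
  exact ⟨T, inferInstance, inferInstance, inferInstance, inferInstance, ρ₁, ρ₂, hsurj₁, hsurj₂,
    hcomm⟩

/-- A local `k`-algebra essentially of finite type is a quotient of a regular local `k`-algebra
essentially of finite type. -/
theorem exists_regular_surjective (k : Type u) [Field k] (S : Type u) [CommRing S] [Algebra k S]
    [IsLocalRing S] [Algebra.EssFiniteType k S] :
    ∃ (T : Type u) (_ : CommRing T) (_ : Algebra k T) (_ : IsRegularLocalRing T)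
      (_ : Algebra.EssFiniteType k T) (ρ : T →ₐ[k] S), Function.Surjective ρ := by
  obtain ⟨T, i1, i2, i3, i4, ρ₁, -, h1, -, -⟩ :=
    exists_dominating k (AlgHom.id k S) (AlgHom.id k S) Function.surjective_id
      Function.surjective_id
  exact ⟨T, i1, i2, i3, i4, ρ₁, h1⟩

end Groth.Agent.H47.CI
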