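import Mathlib
import Groth.Prelude.Def_RegImm
import Groth.Agent.H47.CI.Numeric
import Groth.Agent.H47.CI.Dominate

/-!
# Complete intersections over a field: independence of the presentation
-/

set_option autoImplicit false
set_option linter.style.haveILetI false
set_option linter.unusedSectionVars false

universe u

namespace Groth.Agent.H47.CI

open IsLocalRing RingTheory.Sequence

variable (k : Type u) [Field k]

/-- a quotient of a regular local ring essentially of finite type by a regular sequence is a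
complete intersection -/
theorem isCIOver_of_surjective {S : Type u} [CommRing S] [IsLocalRing S] [Algebra k S]
    (R : Type u) [CommRing R] [IsRegularLocalRing R] [Algebra k R] (hR : Algebra.EssFiniteType k R)
    (π : R →ₐ[k] S) (hπ : Function.Surjective π) (rs : List R) (hreg : IsRegular R rs)
    (hker : RingHom.ker π.toRingHom = Ideal.ofList rs) : Synt.IsCIOver k S := by
  have hne : Ideal.ofList rs ≠ ⊤ := ofList_ne_top_of_isRegular R rs hreg
  have hle : Ideal.ofList rs ≤ maximalIdeal R := IsLocalRing.le_maximalIdeal hne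
  refine ⟨R, inferInstance, inferInstance, inferInstance, hR, rs,
    fun r hr => hle (Ideal.subset_span hr), hreg, ⟨?_⟩⟩
  exact (Ideal.quotientKerAlgEquivOfSurjective hπ).symm.trans
    (Ideal.quotientEquivAlgOfEq k hker)

/-- **Independence of presentation**: if `S` is a complete intersection over `k`, then the kernel
of *every* surjection from a regular local ring essentially of finite type over `k` is generated by
a regular sequence. -/
theorem IsCIOver.exists_isRegular_ker {S : Type u} [CommRing S] [IsLocalRing S] [Algebra k S]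
    (h : Synt.IsCIOver k S)
    (R : Type u) [CommRing R] [IsRegularLocalRing R] [Algebra k R] (hR : Algebra.EssFiniteType k R)
    (π : R →ₐ[k] S) (hπ : Function.Surjective π) :
    ∃ rs : List R, IsRegular R rs ∧ RingHom.ker π.toRingHom = Ideal.ofList rs := by
  obtain ⟨R₀, _, _, _, hR₀, rs₀, -, hreg₀, ⟨e⟩⟩ := h
  let π₀ : R₀ →ₐ[k] S := (e.symm : _ →ₐ[k] S).comp (Ideal.Quotient.mkₐ k (Ideal.ofList rs₀))
  have hπ₀ : Function.Surjective π₀ :=
    e.symm.surjective.comp (Ideal.Quotient.mkₐ_surjective k _)
  have hker₀ : RingHom.ker π₀.toRingHom = Ideal.ofList rs₀ := by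
    ext x
    rw [RingHom.mem_ker]
    change e.symm (Ideal.Quotient.mk _ x) = 0 ↔ _
    rw [map_eq_zero_iff _ e.symm.injective, Ideal.Quotient.eq_zero_iff_mem]
  obtain ⟨T, _, _, _, -, ρ₀, ρ, hρ₀, hρ, hcomm⟩ := exists_dominating k π₀ π hπ₀ hπ
  refine exists_isRegular_of_dominated π₀.toRingHom π.toRingHom ρ₀.toRingHom ρ.toRingHom hπ₀ hπ
    hρ₀ hρ ?_ ⟨rs₀, hreg₀, hker₀⟩
  exact congrArg AlgHom.toRingHom hcomm

/-- a local `k`-algebra essentially of finite type all of whose regular presentations have kernel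
generated by a regular sequence is a complete intersection -/
theorem isCIOver_of_forall {S : Type u} [CommRing S] [IsLocalRing S] [Algebra k S]
    [Algebra.EssFiniteType k S]
    (h : ∀ (R : Type u) [CommRing R] [IsRegularLocalRing R] [Algebra k R],
      Algebra.EssFiniteType k R → ∀ π : R →ₐ[k] S, Function.Surjective π →
        ∃ rs : List R, IsRegular R rs ∧ RingHom.ker π.toRingHom = Ideal.ofList rs) :
    Synt.IsCIOver k S := by
  obtain ⟨T, _, _, _, hT, ρ, hρ⟩ := exists_regular_surjective k S
  obtain ⟨rs, hreg, hker⟩ := h T hT ρ hρ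
  exact isCIOver_of_surjective k T hT ρ hρ rs hreg hker

/-- numerical criterion: the kernel is generated by `dim R - dim S` elements -/
theorem isCIOver_of_length {S : Type u} [CommRing S] [IsLocalRing S] [Algebra k S]
    (R : Type u) [CommRing R] [IsRegularLocalRing R] [Algebra k R] (hR : Algebra.EssFiniteType k R)
    (π : R →ₐ[k] S) (hπ : Function.Surjective π) (rs : List R)
    (hker : RingHom.ker π.toRingHom = Ideal.ofList rs)
    (hdim : ringKrullDim R = ringKrullDim S + (rs.length : WithBot ℕ∞)) : Synt.IsCIOver k S := by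
  obtain ⟨d, hd, -⟩ := Groth.Agent.Lead.RLR.exists_ringKrullDim_eq R
  haveI : IsNoetherianRing S := isNoetherianRing_of_surjective R S π.toRingHom hπ
  obtain ⟨e, he, -⟩ := Groth.Agent.Lead.RLR.exists_ringKrullDim_eq S
  have hne : Ideal.ofList rs ≠ ⊤ := by
    rw [← hker]
    exact RingHom.ker_ne_top _
  have he' : ringKrullDim (R ⧸ Ideal.ofList rs) = (e : WithBot ℕ∞) := by
    rw [← he]
    exact ringKrullDim_eq_of_ringEquiv
      ((Ideal.quotientEquivAlgOfEq k hker).symm.trans
        (Ideal.quotientKerAlgEquivOfSurjective hπ)).toRingEquiv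
  rw [hd, he] at hdim
  have hdn : d = e + rs.length := by exact_mod_cast hdim
  have hreg := isRegular_of_length_add_le R rs hne d e hd he' (by omega)
  exact isCIOver_of_surjective k R hR π hπ rs hreg hker

/-- the defining presentation of a complete intersection has the expected number of equations -/
theorem IsCIOver.exists_length {S : Type u} [CommRing S] [IsLocalRing S] [Algebra k S]
    (h : Synt.IsCIOver k S) :
    ∃ (R : Type u) (_ : CommRing R) (_ : IsRegularLocalRing R) (_ : Algebra k R),
      Algebra.EssFiniteType k R ∧ ∃ π : R →ₐ[k] S, Function.Surjective π ∧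
        ∃ rs : List R, RingHom.ker π.toRingHom = Ideal.ofList rs ∧
          ringKrullDim R = ringKrullDim S + (rs.length : WithBot ℕ∞) := by
  obtain ⟨R₀, _, _, _, hR₀, rs₀, -, hreg₀, ⟨e⟩⟩ := h
  let π₀ : R₀ →ₐ[k] S := (e.symm : _ →ₐ[k] S).comp (Ideal.Quotient.mkₐ k (Ideal.ofList rs₀))
  have hπ₀ : Function.Surjective π₀ :=
    e.symm.surjective.comp (Ideal.Quotient.mkₐ_surjective k _)
  have hker₀ : RingHom.ker π₀.toRingHom = Ideal.ofList rs₀ := by
    ext x
    rw [RingHom.mem_ker]
    change e.symm (Ideal.Quotient.mk _ x) = 0 ↔ _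
    rw [map_eq_zero_iff _ e.symm.injective, Ideal.Quotient.eq_zero_iff_mem]
  refine ⟨R₀, inferInstance, inferInstance, inferInstance, hR₀, π₀, hπ₀, rs₀, hker₀, ?_⟩
  obtain ⟨d, hd, -⟩ := Groth.Agent.Lead.RLR.exists_ringKrullDim_eq R₀
  haveI : IsNoetherianRing S := isNoetherianRing_of_surjective R₀ S π₀.toRingHom hπ₀
  obtain ⟨e', he', -⟩ := Groth.Agent.Lead.RLR.exists_ringKrullDim_eq S
  have he'' : ringKrullDim (R₀ ⧸ Ideal.ofList rs₀) = (e' : WithBot ℕ∞) := by
    rw [← he']
    exact (ringKrullDim_eq_of_ringEquiv e.toRingEquiv).symm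
  have := length_add_eq_of_isRegular R₀ rs₀ hreg₀ d e' hd he''
  rw [hd, he']
  exact_mod_cast (by omega : d = e' + rs₀.length)

/-- transport along an isomorphism -/
theorem isCIOver_of_algEquiv {S S' : Type u} [CommRing S] [IsLocalRing S] [Algebra k S]
    [CommRing S'] [IsLocalRing S'] [Algebra k S'] (e : S ≃ₐ[k] S') (h : Synt.IsCIOver k S) :
    Synt.IsCIOver k S' := by
  obtain ⟨R₀, i1, i2, i3, hR₀, rs₀, hm, hreg₀, ⟨e₀⟩⟩ := h
  exact ⟨R₀, i1, i2, i3, hR₀, rs₀, hm, hreg₀, ⟨e.symm.trans e₀⟩⟩

end Groth.Agent.H47.CI
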