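import Mathlib
import Groth.Prelude.Def_RegImm
import Groth.Agent.H47.CI.Local
import Groth.Agent.H46.CIField

/-!
# Localizations of global complete intersections are complete intersections
-/

set_option autoImplicit false
set_option linter.style.haveILetI false
set_option linter.unusedSectionVars false

universe u

namespace Groth.Agent.H47.CI

open IsLocalRing RingTheory.Sequence

variable (k : Type u) [Field k]

/-- the localization of a surjection of `k`-algebras at a prime of the target -/
theorem exists_localAlgHom {B A : Type u} [CommRing B] [CommRing A] [Algebra k B] [Algebra k A]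
    (φ : B →ₐ[k] A) (hφ : Function.Surjective φ) (a : Ideal A) [a.IsPrime] :
    ∃ π : Localization.AtPrime (a.comap φ) →ₐ[k] Localization.AtPrime a, Function.Surjective π ∧
      RingHom.ker π.toRingHom =
        (RingHom.ker φ.toRingHom).map (algebraMap B (Localization.AtPrime (a.comap φ))) ∧
      ∀ b, π (algebraMap B _ b) = algebraMap A _ (φ b) := by
  have hT : Submonoid.map φ.toRingHom (a.comap φ).primeCompl = a.primeCompl :=
    Submonoid.map_comap_eq_of_surjective hφ a.primeCompl
  let π₀ : Localization.AtPrime (a.comap φ) →+* Localization.AtPrime a :=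
    IsLocalization.map (Localization.AtPrime a) φ.toRingHom
      (hT.symm ▸ (a.comap φ).primeCompl.le_comap_map)
  have hπ₀ : ∀ b, π₀ (algebraMap B _ b) = algebraMap A _ (φ b) := fun b =>
    IsLocalization.map_eq _ b
  let π : Localization.AtPrime (a.comap φ) →ₐ[k] Localization.AtPrime a :=
    { π₀ with
      commutes' := fun c => by
        change π₀ (algebraMap k (Localization.AtPrime (a.comap φ)) c) = _
        rw [IsScalarTower.algebraMap_apply k B (Localization.AtPrime (a.comap φ)), hπ₀,
          AlgHom.commutes, ← IsScalarTower.algebraMap_apply] }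
  refine ⟨π, ?_, ?_, hπ₀⟩
  · haveI : IsLocalization (Submonoid.map φ.toRingHom (a.comap φ).primeCompl)
        (Localization.AtPrime a) := hT.symm ▸ Localization.isLocalization
    exact IsLocalization.map_surjective_of_surjective (a.comap φ).primeCompl
      (Localization.AtPrime (a.comap φ)) (Localization.AtPrime a) hφ
  · exact IsLocalization.ker_map (Localization.AtPrime a) φ.toRingHom hT

/-- the local rings of `k[x_1..x_n]/(f_1..f_c)` of dimension `n - c` are complete intersections -/
theorem isCIOver_atPrime_of_presentation (n c : ℕ) (hcn : c ≤ n) (A : Type u) [CommRing A]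
    [Algebra k A] (φ : MvPolynomial (Fin n) k →ₐ[k] A) (hφ : Function.Surjective φ)
    (r : Fin c → MvPolynomial (Fin n) k)
    (hker : RingHom.ker φ.toRingHom = Ideal.span (Set.range r))
    (hdim : ringKrullDim A = ((n - c : ℕ) : WithBot ℕ∞)) (a : Ideal A) [a.IsPrime] :
    Synt.IsCIOver k (Localization.AtPrime a) := by
  obtain ⟨π, hπ, hkerπ, -⟩ := exists_localAlgHom k φ hφ a
  have hdim' : ringKrullDim (MvPolynomial (Fin n) k ⧸ Ideal.span (Set.range r)) =
      ((n - c : ℕ) : WithBot ℕ∞) := by
    rw [← hdim, ← hker]
    exact ringKrullDim_eq_of_ringEquiv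
      (RingHom.quotientKerEquivOfSurjective (f := φ.toRingHom) hφ)
  have hfq : Ideal.span (Set.range r) ≤ a.comap φ := by
    rw [← hker]
    intro x hx
    change φ x ∈ a
    rw [show φ x = 0 from hx]
    exact zero_mem _
  have hw := Groth.Agent.H46.CIField.isWeaklyRegular_localization k n c hcn r hdim' (a.comap φ) hfq
  set rs := List.ofFn fun i => algebraMap (MvPolynomial (Fin n) k)
    (Localization.AtPrime (a.comap φ)) (r i) with hrs
  have hof : Ideal.ofList rs = (RingHom.ker φ.toRingHom).map
      (algebraMap _ (Localization.AtPrime (a.comap φ))) := by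
    rw [hker, hrs, Groth.Agent.H81.CIGor.ofList_ofFn, Ideal.map_span, ← Set.range_comp]
    rfl
  have hne : Ideal.ofList rs ≠ ⊤ := by
    rw [hof, ← hkerπ]
    exact RingHom.ker_ne_top _
  have hreg : IsRegular (Localization.AtPrime (a.comap φ)) rs := by
    refine ⟨hw, ?_⟩
    intro htop
    apply hne
    rw [smul_eq_mul, Ideal.mul_top] at htop
    exact htop.symm
  exact isCIOver_of_surjective k _ inferInstance π hπ rs hreg (hkerπ.trans hof.symm)

/-- the local rings of a global complete intersection are complete intersections -/
theorem isCIOver_atPrime_of_isGlobalCI {A : Type u} [CommRing A] [Algebra k A]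
    (h : Synt.IsGlobalCI k A) (a : Ideal A) [ha : a.IsPrime] :
    Synt.IsCIOver k (Localization.AtPrime a) := by
  rcases h with hsub | ⟨n, c, hcn, φ, r, hsurj, hker, hdim⟩
  · exact absurd (Subsingleton.elim a ⊤) ha.ne_top
  · exact isCIOver_atPrime_of_presentation k n c hcn A φ hsurj r hker hdim a

end Groth.Agent.H47.CI
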