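import Mathlib

/-!
# Auxiliary lemmas for spreading out generators from a localization at a prime
-/

set_option autoImplicit false
set_option linter.style.haveILetI false
set_option linter.unusedSectionVars false

universe u

namespace Groth.Agent.H47.CI

section

/-- numerators of a list of generators of `I P` can be chosen in `I` -/
theorem exists_numerators {A : Type*} [CommRing A] (Q : Ideal A) [Q.IsPrime] (P : Type*)
    [CommRing P] [Algebra A P] [IsLocalization.AtPrime P Q] (I : Ideal A) (rs : List P)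
    (h : Ideal.ofList rs = I.map (algebraMap A P)) :
    ∃ f : Fin rs.length → A, (∀ i, f i ∈ I) ∧
      Ideal.span (Set.range fun i => algebraMap A P (f i)) = I.map (algebraMap A P) := by
  have hmem : ∀ i : Fin rs.length, ∃ x : I × Q.primeCompl,
      rs[i] * algebraMap A P x.2 = algebraMap A P x.1 := by
    intro i
    apply (IsLocalization.mem_map_algebraMap_iff Q.primeCompl P).mp
    rw [← h]
    exact Ideal.subset_span (List.getElem_mem _)
  choose x hx using hmem
  refine ⟨fun i => (x i).1.1, fun i => (x i).1.2, ?_⟩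
  apply le_antisymm
  · rw [Ideal.span_le]
    rintro _ ⟨i, rfl⟩
    exact Ideal.mem_map_of_mem _ (x i).1.2
  · rw [← h]
    unfold Ideal.ofList
    rw [Ideal.span_le]
    intro r hr
    obtain ⟨i, hi, rfl⟩ := List.getElem_of_mem hr
    have hu : IsUnit (algebraMap A P (x ⟨i, hi⟩).2) :=
      IsLocalization.map_units P (x ⟨i, hi⟩).2
    obtain ⟨u, hu'⟩ := hu
    have h1 : rs[i] = algebraMap A P (x ⟨i, hi⟩).1 * ↑u⁻¹ := by
      have h2 := hx ⟨i, hi⟩
      rw [← hu'] at h2
      change rs[i] * ↑u = _ at h2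
      rw [← h2, mul_assoc, Units.mul_inv, mul_one]
    change rs[i] ∈ _
    rw [h1]
    exact Ideal.mul_mem_right _ _ (Ideal.subset_span ⟨⟨i, hi⟩, rfl⟩)

/-- if `F ≤ I` have the same extension to `A_Q` and `I` is finitely generated, then
`t I ≤ F` for some `t ∉ Q` -/
theorem exists_mul_mem_of_map_eq {A : Type*} [CommRing A] (Q : Ideal A) [Q.IsPrime] (P : Type*)
    [CommRing P] [Algebra A P] [IsLocalization.AtPrime P Q] (F I : Ideal A) (hI : I.FG)
    (h : I.map (algebraMap A P) ≤ F.map (algebraMap A P)) :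
    ∃ t : A, t ∉ Q ∧ ∀ x ∈ I, t * x ∈ F := by
  classical
  obtain ⟨H, rfl⟩ := hI
  have hex : ∀ y : A, y ∈ (H : Set A) → ∃ t : A, t ∉ Q ∧ t * y ∈ F := by
    intro y hy
    have h1 : algebraMap A P y ∈ F.map (algebraMap A P) :=
      h (Ideal.mem_map_of_mem _ (Ideal.subset_span hy))
    obtain ⟨⟨⟨b, hb⟩, s⟩, hbs⟩ := (IsLocalization.mem_map_algebraMap_iff Q.primeCompl P).mp h1
    change algebraMap A P y * algebraMap A P s = algebraMap A P b at hbs
    rw [← map_mul] at hbs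
    obtain ⟨s', hs'⟩ := (IsLocalization.eq_iff_exists Q.primeCompl P).mp hbs
    refine ⟨s' * s, ?_, ?_⟩
    · exact (s' * s).2
    · have : (s' : A) * s * y = s' * b := by
        rw [← hs']
        ring
      rw [this]
      exact Ideal.mul_mem_left _ _ hb
  let tf : A → A := fun y => if hy : y ∈ H then (hex y hy).choose else 1
  have htf1 : ∀ y ∈ H, tf y ∉ Q := by
    intro y hy
    simp only [tf, dif_pos hy]
    exact (hex y hy).choose_spec.1
  have htf2 : ∀ y ∈ H, tf y * y ∈ F := by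
    intro y hy
    simp only [tf, dif_pos hy]
    exact (hex y hy).choose_spec.2
  refine ⟨∏ y ∈ H, tf y, ?_, ?_⟩
  · intro hmem
    obtain ⟨y, hy, hyQ⟩ := Ideal.IsPrime.prod_mem_iff.mp hmem
    exact htf1 y hy hyQ
  · intro x hx
    refine Submodule.span_induction (p := fun x _ => (∏ y ∈ H, tf y) * x ∈ F) ?_ ?_ ?_ ?_ hx
    · intro y hy
      obtain ⟨w, hw⟩ := Finset.dvd_prod_of_mem tf hy
      rw [hw, mul_assoc, mul_comm w, ← mul_assoc, mul_comm _ w, ← mul_assoc, mul_assoc]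
      exact Ideal.mul_mem_left _ _ (htf2 y hy)
    · rw [mul_zero]
      exact zero_mem _
    · intro a b _ _ ha hb
      rw [mul_add]
      exact add_mem ha hb
    · intro a b _ hb
      rw [smul_eq_mul, mul_left_comm]
      exact Ideal.mul_mem_left _ _ hb

end

/-- an element outside `Q` lying in every minimal prime over `F` that is not contained in `Q` -/
theorem exists_avoid_minimalPrimes {A : Type*} [CommRing A] [IsNoetherianRing A] (F Q : Ideal A)
    [Q.IsPrime] : ∃ u : A, u ∉ Q ∧ ∀ 𝔭 ∈ F.minimalPrimes, u ∉ 𝔭 → 𝔭 ≤ Q := by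
  classical
  have hfin : F.minimalPrimes.Finite := Ideal.finite_minimalPrimes_of_isNoetherianRing A F
  have hex : ∀ 𝔭 : Ideal A, ¬ 𝔭 ≤ Q → ∃ x, x ∈ 𝔭 ∧ x ∉ Q := fun 𝔭 h => Set.not_subset.mp h
  let uf : Ideal A → A := fun 𝔭 => if h : ¬ 𝔭 ≤ Q then (hex 𝔭 h).choose else 1
  have huf1 : ∀ 𝔭, uf 𝔭 ∉ Q := by
    intro 𝔭
    by_cases h : ¬ 𝔭 ≤ Q
    · simp only [uf, dif_pos h]
      exact (hex 𝔭 h).choose_spec.2
    · simp only [uf, dif_neg h]
      exact fun h1 => Ideal.IsPrime.ne_top' ((Ideal.eq_top_iff_one Q).mpr h1)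
  have huf2 : ∀ 𝔭, ¬ 𝔭 ≤ Q → uf 𝔭 ∈ 𝔭 := by
    intro 𝔭 h
    simp only [uf, dif_pos h]
    exact (hex 𝔭 h).choose_spec.1
  refine ⟨∏ 𝔭 ∈ hfin.toFinset, uf 𝔭, ?_, ?_⟩
  · intro hmem
    obtain ⟨𝔭, -, h𝔭⟩ := Ideal.IsPrime.prod_mem_iff.mp hmem
    exact huf1 𝔭 h𝔭
  · intro 𝔭 h𝔭 hu
    by_contra hle
    apply hu
    obtain ⟨w, hw⟩ := Finset.dvd_prod_of_mem uf (hfin.mem_toFinset.mpr h𝔭)
    rw [hw]
    exact Ideal.mul_mem_right _ _ (huf2 𝔭 hle)

end Groth.Agent.H47.CI
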