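import Mathlib
import Groth.Prelude.Def_RegImm
import Groth.Agent.H47.CI.GlobalLocal
import Groth.Agent.H47.CI.SpreadAux
import Groth.Agent.H46.GCILoc
import Groth.Agent.H72.CMLocal

/-!
# Spreading out: a finite type `k`-algebra whose local ring at `q` is a complete intersection
has a basic open neighbourhood of `q` which is a global complete intersection.
-/

set_option autoImplicit false
set_option linter.style.haveILetI false
set_option linter.unusedSectionVars false

universe u

namespace Groth.Agent.H47.CI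

open IsLocalRing RingTheory.Sequence

variable (k : Type u) [Field k]

/-- `(A₀/F)[1/G] ≅ S[1/φ G]` when `F ≤ ker φ` and `t · ker φ ≤ F` for a factor `t` of `G`. -/
theorem exists_algEquiv_away {A₀ S : Type u} [CommRing A₀] [CommRing S] [Algebra k A₀]
    [Algebra k S] (φ : A₀ →ₐ[k] S) (hφ : Function.Surjective φ) (F : Ideal A₀)
    (hF : F ≤ RingHom.ker φ.toRingHom) (t u : A₀)
    (ht : ∀ x ∈ RingHom.ker φ.toRingHom, t * x ∈ F) :
    Nonempty (Localization.Away (Ideal.Quotient.mk F (t * u)) ≃ₐ[k]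
      Localization.Away (φ (t * u))) := by
  let B := A₀ ⧸ F
  let ψ : B →ₐ[k] S := Ideal.Quotient.liftₐ F φ (fun a ha => hF ha)
  have hψ : ∀ a : A₀, ψ (Ideal.Quotient.mk F a) = φ a := fun a => rfl
  set g : S := φ (t * u) with hg
  set gb : B := Ideal.Quotient.mk F (t * u) with hgb
  letI : Algebra B (Localization.Away g) :=
    ((algebraMap S (Localization.Away g)).comp ψ.toRingHom).toAlgebra
  have halg : ∀ b : B, algebraMap B (Localization.Away g) b =
      algebraMap S (Localization.Away g) (ψ b) := fun b => rfl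
  haveI : IsScalarTower k B (Localization.Away g) := IsScalarTower.of_algebraMap_eq (fun c => by
    rw [halg, AlgHom.commutes, ← IsScalarTower.algebraMap_apply])
  have hloc : IsLocalization.Away gb (Localization.Away g) := by
    rw [IsLocalization.Away, isLocalization_iff]
    refine ⟨?_, ?_, ?_⟩
    · rintro ⟨_, n, rfl⟩
      change IsUnit (algebraMap B (Localization.Away g) (gb ^ n))
      rw [halg, map_pow, hgb, hψ, ← hg]
      exact IsLocalization.map_units (Localization.Away g) (⟨g ^ n, n, rfl⟩ : Submonoid.powers g)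
    · intro z
      obtain ⟨⟨s, ⟨_, n, rfl⟩⟩, hs⟩ := IsLocalization.surj (Submonoid.powers g) z
      obtain ⟨a, rfl⟩ := hφ s
      refine ⟨⟨Ideal.Quotient.mk F a, ⟨gb ^ n, n, rfl⟩⟩, ?_⟩
      change z * algebraMap B (Localization.Away g) (gb ^ n) =
        algebraMap B (Localization.Away g) (Ideal.Quotient.mk F a)
      rw [halg, halg, map_pow, hgb, hψ, hψ, ← hg]
      exact hs
    · intro x y hxy
      obtain ⟨a, rfl⟩ := Ideal.Quotient.mk_surjective x
      obtain ⟨b, rfl⟩ := Ideal.Quotient.mk_surjective y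
      rw [halg, halg, hψ, hψ] at hxy
      obtain ⟨⟨_, n, rfl⟩, hc⟩ := (IsLocalization.eq_iff_exists (Submonoid.powers g) _).mp hxy
      change g ^ n * φ a = g ^ n * φ b at hc
      have h1 : (t * u) ^ n * (a - b) ∈ RingHom.ker φ.toRingHom := by
        rw [RingHom.mem_ker]
        change φ ((t * u) ^ n * (a - b)) = 0
        rw [map_mul, map_pow, ← hg, map_sub, mul_sub, hc, sub_self]
      have h2 := ht _ h1
      refine ⟨⟨gb ^ (n + 1), n + 1, rfl⟩, ?_⟩
      change gb ^ (n + 1) * Ideal.Quotient.mk F a = gb ^ (n + 1) * Ideal.Quotient.mk F b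
      rw [hgb, ← map_pow, ← map_mul, ← map_mul]
      apply Ideal.Quotient.eq.mpr
      have h3 : (t * u) ^ (n + 1) * a - (t * u) ^ (n + 1) * b =
          u * (t * ((t * u) ^ n * (a - b))) := by ring
      rw [h3]
      exact Ideal.mul_mem_left _ _ h2
  haveI := hloc
  let e : Localization.Away gb ≃ₐ[B] Localization.Away g :=
    IsLocalization.algEquiv (Submonoid.powers gb) _ _
  exact ⟨e.restrictScalars k⟩

/-- minimal primes over `F` inside `Q` have height at least the length of a regular sequence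
generating `F A_Q` -/
theorem le_height_of_mem_minimalPrimes {A₀ : Type u} [CommRing A₀] [IsNoetherianRing A₀]
    (Q : Ideal A₀) [Q.IsPrime] [IsRegularLocalRing (Localization.AtPrime Q)] (F : Ideal A₀)
    (rs : List (Localization.AtPrime Q)) (hreg : IsRegular (Localization.AtPrime Q) rs)
    (hof : Ideal.ofList rs = F.map (algebraMap A₀ (Localization.AtPrime Q)))
    (𝔭 : Ideal A₀) (h𝔭 : 𝔭 ∈ F.minimalPrimes) (hle : 𝔭 ≤ Q) : (rs.length : ℕ∞) ≤ 𝔭.height := by
  let P := Localization.AtPrime Q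
  haveI h𝔭prime : 𝔭.IsPrime := h𝔭.1.1
  have hdisj : Disjoint (Q.primeCompl : Set A₀) (𝔭 : Set A₀) := by
    rw [Set.disjoint_left]
    intro x hx hx𝔭
    exact hx (hle hx𝔭)
  haveI h𝔭P : (𝔭.map (algebraMap A₀ P)).IsPrime :=
    IsLocalization.isPrime_of_isPrime_disjoint Q.primeCompl P 𝔭 h𝔭prime hdisj
  have hht : (𝔭.map (algebraMap A₀ P)).height = 𝔭.height :=
    IsLocalization.height_map_of_disjoint Q.primeCompl 𝔭 hdisj
  have hne : Ideal.ofList rs ≠ ⊤ := ofList_ne_top_of_isRegular P rs hreg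
  obtain ⟨d, hd, -⟩ := Groth.Agent.Lead.RLR.exists_ringKrullDim_eq P
  haveI : IsLocalRing (P ⧸ Ideal.ofList rs) := Groth.Agent.Lead.RLR.isLocalRing_quotient P _ hne
  obtain ⟨e, he, -⟩ := Groth.Agent.Lead.RLR.exists_ringKrullDim_eq (P ⧸ Ideal.ofList rs)
  have hlen := length_add_eq_of_isRegular P rs hreg d e hd he
  have hCM := Groth.Agent.H46.CIField.isCM_of_isRegularLocalRing P
  have h1 := Groth.Agent.H72.CMLocal.ringKrullDim_eq_quotient_add_height P hCM
    (𝔭.map (algebraMap A₀ P))
  have hsub : Ideal.ofList rs ≤ 𝔭.map (algebraMap A₀ P) := by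
    rw [hof]
    exact Ideal.map_mono h𝔭.1.2
  have h2 : ringKrullDim (P ⧸ 𝔭.map (algebraMap A₀ P)) ≤ (e : WithBot ℕ∞) := by
    rw [← he]
    exact ringKrullDim_le_of_surjective (Ideal.Quotient.factor hsub)
      (Ideal.Quotient.factor_surjective hsub)
  rw [← hht]
  rw [hd] at h1
  by_cases htop : (𝔭.map (algebraMap A₀ P)).height = ⊤
  · rw [htop]
    exact le_top
  · obtain ⟨h', hh'⟩ := ENat.ne_top_iff_exists.mp htop
    rw [← hh'] at h1 ⊢
    have h3 : (d : WithBot ℕ∞) ≤ (e : WithBot ℕ∞) + ((h' : ℕ∞) : WithBot ℕ∞) := by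
      rw [h1]
      gcongr
    have h4 : d ≤ e + h' := by exact_mod_cast h3
    have : rs.length ≤ h' := by omega
    exact_mod_cast this

/-- the dimension bound for a basic open subset of `k[x]/F` all of whose components have
codimension at least `c` -/
theorem ringKrullDim_away_le (n c : ℕ) (F : Ideal (MvPolynomial (Fin n) k))
    (G : MvPolynomial (Fin n) k)
    (h : ∀ 𝔭 ∈ F.minimalPrimes, G ∉ 𝔭 → (c : ℕ∞) ≤ 𝔭.height) :
    ringKrullDim (Localization.Away (Ideal.Quotient.mk F G)) ≤ ((n - c : ℕ) : WithBot ℕ∞) := by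
  let A₀ := MvPolynomial (Fin n) k
  let B := A₀ ⧸ F
  let gb : B := Ideal.Quotient.mk F G
  let ψ : A₀ →+* Localization.Away gb := (algebraMap B (Localization.Away gb)).comp
    (Ideal.Quotient.mk F)
  unfold ringKrullDim Order.krullDim
  refine iSup_le fun p => ?_
  let fmap : PrimeSpectrum (Localization.Away gb) → PrimeSpectrum A₀ := PrimeSpectrum.comap ψ
  have hinj : Function.Injective fmap := by
    have h1 : fmap = (PrimeSpectrum.comap (Ideal.Quotient.mk F)) ∘
        (PrimeSpectrum.comap (algebraMap B (Localization.Away gb))) := by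
      funext x
      rfl
    rw [h1]
    exact (PrimeSpectrum.comap_injective_of_surjective _ Ideal.Quotient.mk_surjective).comp
      (PrimeSpectrum.localization_comap_injective (Localization.Away gb) (Submonoid.powers gb))
  have hstrict : StrictMono fmap := by
    intro a b hab
    refine lt_of_le_of_ne ?_ (fun h => (ne_of_lt hab) (hinj h))
    exact Ideal.comap_mono (le_of_lt hab)
  let p' : LTSeries (PrimeSpectrum A₀) := p.map fmap hstrict
  have hFhead : F ≤ p'.head.asIdeal := by
    intro x hx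
    change ψ x ∈ p.head.asIdeal
    have : ψ x = 0 := by
      change algebraMap B _ (Ideal.Quotient.mk F x) = 0
      rw [Ideal.Quotient.eq_zero_iff_mem.mpr hx, map_zero]
    rw [this]
    exact zero_mem _
  have hGhead : G ∉ p'.head.asIdeal := by
    intro hG
    have h1 : algebraMap B (Localization.Away gb) gb ∈ p.head.asIdeal := hG
    exact p.head.isPrime.ne_top (Ideal.eq_top_of_isUnit_mem _ h1
      (IsLocalization.Away.algebraMap_isUnit gb))
  obtain ⟨𝔭, h𝔭min, h𝔭le⟩ := Ideal.exists_minimalPrimes_le hFhead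
  have hG𝔭 : G ∉ 𝔭 := fun hG => hGhead (h𝔭le hG)
  have hc := h 𝔭 h𝔭min hG𝔭
  haveI : 𝔭.IsPrime := h𝔭min.1.1
  have hlen := Groth.Agent.H46.CIField.length_le_ringKrullDim_of_surjective (Ideal.Quotient.mk 𝔭)
    Ideal.Quotient.mk_surjective p' (fun i => by
      rw [Ideal.mk_ker]
      exact h𝔭le.trans (LTSeries.head_le p' i))
  have hform := Groth.Agent.H46.CIField.ringKrullDim_quotient_add_height k n 𝔭
  obtain ⟨h', hh'⟩ := ENat.ne_top_iff_exists.mp (Ideal.height_ne_top_of_isPrime (I := 𝔭))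
  rw [← hh'] at hform hc
  have hc' : c ≤ h' := by exact_mod_cast hc
  have h5 : ((p'.length : ℕ) : WithBot ℕ∞) + ((h' : ℕ∞) : WithBot ℕ∞) ≤ (n : WithBot ℕ∞) := by
    rw [← hform]
    gcongr
  have h6 : p'.length + h' ≤ n := by exact_mod_cast h5
  have h7 : p.length = p'.length := rfl
  have : p.length ≤ n - c := by omega
  exact_mod_cast this

/-- **Spreading out.** -/
theorem exists_away_isGlobalCI (S : Type u) [CommRing S] [Algebra k S] [Algebra.FiniteType k S]
    (q : Ideal S) [hq : q.IsPrime] (h : Synt.IsCIOver k (Localization.AtPrime q)) :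
    ∃ g : S, g ∉ q ∧ Synt.IsGlobalCI k (Localization.Away g) := by
  classical
  obtain ⟨n, φ, hφ⟩ := Algebra.FiniteType.iff_quotient_mvPolynomial''.mp
    (inferInstance : Algebra.FiniteType k S)
  let A₀ := MvPolynomial (Fin n) k
  let Q : Ideal A₀ := q.comap φ
  let P := Localization.AtPrime Q
  let I : Ideal A₀ := RingHom.ker φ.toRingHom
  obtain ⟨π, hπ, hkerπ, -⟩ := exists_localAlgHom k φ hφ q
  obtain ⟨rs, hreg, hkerrs⟩ := IsCIOver.exists_isRegular_ker k h P inferInstance π hπ
  have hof : Ideal.ofList rs = I.map (algebraMap A₀ P) := hkerrs.symm.trans hkerπ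
  obtain ⟨f, hfI, hfspan⟩ := exists_numerators Q P I rs hof
  let F : Ideal A₀ := Ideal.span (Set.range f)
  have hFI : F ≤ I := by
    rw [Ideal.span_le]
    rintro _ ⟨i, rfl⟩
    exact hfI i
  have hFmap : F.map (algebraMap A₀ P) = I.map (algebraMap A₀ P) := by
    rw [← hfspan, Ideal.map_span, ← Set.range_comp]
    rfl
  have hofF : Ideal.ofList rs = F.map (algebraMap A₀ P) := hof.trans hFmap.symm
  obtain ⟨t, htQ, ht⟩ := exists_mul_mem_of_map_eq Q P F I (IsNoetherian.noetherian I)
    (le_of_eq hFmap.symm)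
  obtain ⟨u, huQ, hu⟩ := exists_avoid_minimalPrimes F Q
  have hGQ : t * u ∉ Q := fun hm => (Ideal.IsPrime.mem_or_mem inferInstance hm).elim htQ huQ
  have hgq : φ (t * u) ∉ q := hGQ
  refine ⟨φ (t * u), hgq, ?_⟩
  obtain ⟨e⟩ := exists_algEquiv_away k φ hφ F hFI t u ht
  refine Groth.Agent.H46.isGlobalCI_of_algEquiv e ?_
  -- nontriviality
  haveI hnt' : Nontrivial (Localization.Away (φ (t * u))) := by
    by_contra hsub
    rw [not_nontrivial_iff_subsingleton] at hsub
    have h01 : algebraMap S (Localization.Away (φ (t * u))) 1 =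
        algebraMap S (Localization.Away (φ (t * u))) 0 := Subsingleton.elim _ _
    obtain ⟨⟨_, m, rfl⟩, hc⟩ :=
      (IsLocalization.eq_iff_exists (Submonoid.powers (φ (t * u))) _).mp h01
    rw [mul_one, mul_zero] at hc
    change φ (t * u) ^ m = 0 at hc
    apply hgq
    apply hq.mem_of_pow_mem m
    rw [hc]
    exact zero_mem _
  haveI hnt : Nontrivial (Localization.Away (Ideal.Quotient.mk F (t * u))) :=
    e.symm.injective.nontrivial
  -- heights of the relevant components
  have hcomp : ∀ 𝔭 ∈ F.minimalPrimes, t * u ∉ 𝔭 → (rs.length : ℕ∞) ≤ 𝔭.height := by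
    intro 𝔭 h𝔭 hG
    have hu𝔭 : u ∉ 𝔭 := fun hm => hG (Ideal.mul_mem_left _ _ hm)
    exact le_height_of_mem_minimalPrimes Q F rs hreg hofF 𝔭 h𝔭 (hu 𝔭 h𝔭 hu𝔭)
  -- `c ≤ n`
  have hcn : rs.length ≤ n := by
    have hFQ : F ≤ Q := by
      intro x hx
      have : φ x = 0 := hFI hx
      change φ x ∈ q
      rw [this]
      exact zero_mem _
    obtain ⟨𝔭, h𝔭min, h𝔭le⟩ := Ideal.exists_minimalPrimes_le hFQ
    haveI : 𝔭.IsPrime := h𝔭min.1.1
    have h1 := le_height_of_mem_minimalPrimes Q F rs hreg hofF 𝔭 h𝔭min h𝔭le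
    have h2 : 𝔭.height ≤ ringKrullDim A₀ := Ideal.height_le_ringKrullDim_of_ne_top
      (Ideal.IsPrime.ne_top inferInstance)
    rw [Groth.Agent.H54.ringKrullDim_mvPolynomial_fin_field] at h2
    have h3 : ((rs.length : ℕ∞) : WithBot ℕ∞) ≤ (n : WithBot ℕ∞) :=
      le_trans (by exact_mod_cast h1) h2
    exact_mod_cast h3
  have hkerB : RingHom.ker (Ideal.Quotient.mkₐ k F).toRingHom = Ideal.span (Set.range f) := by
    have h1 : (Ideal.Quotient.mkₐ k F).toRingHom = Ideal.Quotient.mk F := rfl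
    rw [h1]
    exact (Ideal.mk_ker (I := F))
  obtain ⟨φ', r', hs', hk'⟩ := Groth.Agent.H46.GCILoc.exists_presentation_away
    (Ideal.Quotient.mk F (t * u)) n rs.length (Ideal.Quotient.mkₐ k F) f
    (Ideal.Quotient.mkₐ_surjective k F) hkerB
  refine Or.inr ⟨n + 1, rs.length + 1, by omega, φ', r', hs', hk', ?_⟩
  have e' : n + 1 - (rs.length + 1) = n - rs.length := by omega
  rw [e']
  apply le_antisymm
  · exact ringKrullDim_away_le k n rs.length F (t * u) hcomp
  · exact Groth.Agent.H46.GCILoc.le_ringKrullDim_away (Ideal.Quotient.mk F (t * u)) n rs.length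
      (Ideal.Quotient.mkₐ k F) f (Ideal.Quotient.mkₐ_surjective k F) hkerB

end Groth.Agent.H47.CI
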