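import Mathlib
import Groth.Prelude.Def_RegImm
import Groth.Agent.H47.CI.Spread
import Groth.Agent.H47.CMSlice.Loc
import Groth.Agent.H47.Synt.Transport

/-!
# Complete intersections over a field: local / global dictionary (ring level)
-/

set_option autoImplicit false
set_option linter.style.haveILetI false
set_option linter.unusedSectionVars false

universe u

namespace Groth.Agent.H47.CI

open IsLocalRing RingTheory.Sequence

variable (k : Type u) [Field k]

theorem nonempty_algEquiv_atPrime_of_eq {S : Type u} [CommRing S] (I J : Ideal S) [I.IsPrime]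
    [J.IsPrime] (h : I = J) : Nonempty (Localization.AtPrime I ≃ₐ[S] Localization.AtPrime J) := by
  subst h
  exact ⟨AlgEquiv.refl⟩

/-- `S_q ≅ (S_g)_{q₁}` for a prime `q₁` of `S_g` lying over `q`. -/
theorem nonempty_algEquiv_atPrime_away {S : Type u} [CommRing S] [Algebra k S] (g : S)
    (q : Ideal S) [q.IsPrime] (q₁ : Ideal (Localization.Away g)) [q₁.IsPrime]
    (hq₁ : q₁.comap (algebraMap S (Localization.Away g)) = q) :
    Nonempty (Localization.AtPrime q ≃ₐ[k] Localization.AtPrime q₁) := by
  obtain ⟨e₀⟩ := nonempty_algEquiv_atPrime_of_eq q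
    (q₁.comap (algebraMap S (Localization.Away g))) hq₁.symm
  let e₁ := IsLocalization.localizationLocalizationAtPrimeIsoLocalization (Submonoid.powers g) q₁
  exact ⟨(e₀.trans e₁).restrictScalars k⟩

/-- a global complete intersection is a local complete intersection -/
theorem isLCIOver_of_isGlobalCI {A : Type u} [CommRing A] [Algebra k A]
    (h : Synt.IsGlobalCI k A) : Synt.IsLCIOver k A := by
  rcases h with hsub | ⟨n, c, hcn, φ, r, hsurj, hker, hdim⟩
  · exact Groth.Agent.H47.Synt.isLCIOver_of_subsingleton k A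
  · refine ⟨Algebra.FiniteType.of_surjective φ hsurj, fun p => ⟨1, ?_, ?_⟩⟩
    · exact fun h1 => p.isPrime.ne_top ((Ideal.eq_top_iff_one _).mpr h1)
    · exact Groth.Agent.H46.GCILoc.isGlobalCI_away 1
        (Or.inr ⟨n, c, hcn, φ, r, hsurj, hker, hdim⟩)

/-- if a basic open neighbourhood of `q` is a global complete intersection then `S_q` is a
complete intersection -/
theorem isCIOver_atPrime_of_away_isGlobalCI {S : Type u} [CommRing S] [Algebra k S] (g : S)
    (q : Ideal S) [q.IsPrime] (hg : g ∉ q) (h : Synt.IsGlobalCI k (Localization.Away g)) :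
    Synt.IsCIOver k (Localization.AtPrime q) := by
  haveI := Groth.Agent.H47.CMSlice.isPrime_map_away q (Localization.Away g) g hg
  have hc := Groth.Agent.H47.CMSlice.comap_map_away q (Localization.Away g) g hg
  obtain ⟨e⟩ := nonempty_algEquiv_atPrime_away k g q
    (q.map (algebraMap S (Localization.Away g))) hc
  exact isCIOver_of_algEquiv k e.symm
    (isCIOver_atPrime_of_isGlobalCI k h (q.map (algebraMap S (Localization.Away g))))

/-- the local rings of a local complete intersection are complete intersections -/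
theorem isCIOver_atPrime_of_isLCIOver {A : Type u} [CommRing A] [Algebra k A]
    (h : Synt.IsLCIOver k A) (a : Ideal A) [ha : a.IsPrime] :
    Synt.IsCIOver k (Localization.AtPrime a) := by
  obtain ⟨g, hga, hG⟩ := h.2 ⟨a, ha⟩
  exact isCIOver_atPrime_of_away_isGlobalCI k g a hga hG

/-- if a basic open neighbourhood of `q` is a local complete intersection then `S_q` is a
complete intersection -/
theorem isCIOver_atPrime_of_away_isLCIOver {S : Type u} [CommRing S] [Algebra k S] (g : S)
    (q : Ideal S) [q.IsPrime] (hg : g ∉ q) (h : Synt.IsLCIOver k (Localization.Away g)) :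
    Synt.IsCIOver k (Localization.AtPrime q) := by
  haveI := Groth.Agent.H47.CMSlice.isPrime_map_away q (Localization.Away g) g hg
  have hc := Groth.Agent.H47.CMSlice.comap_map_away q (Localization.Away g) g hg
  obtain ⟨e⟩ := nonempty_algEquiv_atPrime_away k g q
    (q.map (algebraMap S (Localization.Away g))) hc
  exact isCIOver_of_algEquiv k e.symm
    (isCIOver_atPrime_of_isLCIOver k h (q.map (algebraMap S (Localization.Away g))))

/-- S9144 -/
theorem atPrime_iff_exists_away (S : Type u) [CommRing S] [Algebra k S]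
    [Algebra.FiniteType k S] (q : Ideal S) [q.IsPrime] :
    (Synt.IsCIOver k (Localization.AtPrime q) ↔
        ∃ g : S, g ∉ q ∧ Synt.IsLCIOver k (Localization.Away g)) ∧
      (Synt.IsCIOver k (Localization.AtPrime q) ↔
        ∃ g : S, g ∉ q ∧ Synt.IsGlobalCI k (Localization.Away g)) := by
  refine ⟨⟨fun h => ?_, fun ⟨g, hg, h⟩ => isCIOver_atPrime_of_away_isLCIOver k g q hg h⟩,
    ⟨fun h => exists_away_isGlobalCI k S q h,
      fun ⟨g, hg, h⟩ => isCIOver_atPrime_of_away_isGlobalCI k g q hg h⟩⟩
  obtain ⟨g, hg, hG⟩ := exists_away_isGlobalCI k S q h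
  exact ⟨g, hg, isLCIOver_of_isGlobalCI k hG⟩

/-- S9145 -/
theorem isLCIOver_iff_forall_atPrime (S : Type u) [CommRing S] [Algebra k S]
    [Algebra.FiniteType k S] :
    (Synt.IsLCIOver k S ↔
        ∀ p : PrimeSpectrum S, Synt.IsCIOver k (Localization.AtPrime p.asIdeal)) ∧
      (Synt.IsLCIOver k S ↔
        ∀ m : MaximalSpectrum S, Synt.IsCIOver k (Localization.AtPrime m.asIdeal)) := by
  refine ⟨⟨fun h p => isCIOver_atPrime_of_isLCIOver k h p.asIdeal, fun h => ?_⟩,
    ⟨fun h m => isCIOver_atPrime_of_isLCIOver k h m.asIdeal, fun h => ?_⟩⟩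
  · exact ⟨inferInstance, fun p => exists_away_isGlobalCI k S p.asIdeal (h p)⟩
  · refine ⟨inferInstance, fun p => ?_⟩
    obtain ⟨m, hm, hpm⟩ := Ideal.exists_le_maximal p.asIdeal p.isPrime.ne_top
    obtain ⟨g, hg, hG⟩ := exists_away_isGlobalCI k S m (h ⟨m, hm⟩)
    exact ⟨g, fun hgp => hg (hpm hgp), hG⟩

end Groth.Agent.H47.CI
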