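import Mathlib
import Groth.Prelude.Def_RegImm
import Groth.Agent.H47.CI.Rows
import Groth.Agent.H47.Synt.Local
import Groth.Agent.H46.SyntLocal
import Groth.Agent.H46.RelGCIFlat
import Groth.Agent.H1.FlatLocusExists

/-!
# Syntomic neighbourhoods: local criteria (S9169)
-/

set_option autoImplicit false
set_option linter.style.haveILetI false
set_option linter.unusedSectionVars false

universe u

namespace Groth.Agent.H47.CI

open IsLocalRing TensorProduct

section Transfer

/-- `B_Q ≅ (B')_{Q'}` for `B'` a principal localization of `B` and `Q'` lying over `Q`. -/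
theorem nonempty_algEquiv_atPrime_of_isLocalization_away {k B B' : Type u} [CommRing k]
    [CommRing B] [CommRing B'] [Algebra k B] [Algebra k B'] [Algebra B B'] [IsScalarTower k B B']
    (b : B) [IsLocalization.Away b B'] (Q : Ideal B) [Q.IsPrime] (Q' : Ideal B') [Q'.IsPrime]
    (h : Q'.comap (algebraMap B B') = Q) :
    Nonempty (Localization.AtPrime Q ≃ₐ[k] Localization.AtPrime Q') := by
  subst h
  haveI : IsLocalization.AtPrime (Localization.AtPrime Q') (Q'.comap (algebraMap B B')) :=
    IsLocalization.isLocalization_isLocalization_atPrime_isLocalization (Submonoid.powers b)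
      (Localization.AtPrime Q') Q'
  exact ⟨(IsLocalization.algEquiv (Q'.comap (algebraMap B B')).primeCompl
    (Localization.AtPrime (Q'.comap (algebraMap B B'))) (Localization.AtPrime Q')).restrictScalars k⟩

end Transfer

section Fibre

variable (R S : Type u) [CommRing R] [CommRing S] [Algebra R S] (p : Ideal R) [p.IsPrime]

/-- fibre primes: passing to a principal localization of `S`. -/
theorem exists_fibre_prime_away (q : Ideal S) [q.IsPrime] (Q : Ideal (p.Fiber S)) [Q.IsPrime]
    (hQ : Q.comap (Algebra.TensorProduct.includeRight.toRingHom) = q) (g : S) (hg : g ∉ q) :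
    ∃ (Q' : Ideal (p.Fiber (Localization.Away g))) (_ : Q'.IsPrime),
      Q'.comap (Algebra.TensorProduct.includeRight.toRingHom) =
        q.map (algebraMap S (Localization.Away g)) ∧
      Nonempty (Localization.AtPrime Q ≃ₐ[p.ResidueField] Localization.AtPrime Q') ∧
      Nonempty (Localization.Away ((1 : p.ResidueField) ⊗ₜ[R] g) ≃ₐ[p.ResidueField]
        p.Fiber (Localization.Away g)) := by
  letI alg : Algebra (p.Fiber S) (p.Fiber (Localization.Away g)) :=
    (Groth.Agent.H46.tensorAwayMap R p.ResidueField S (Localization.Away g)).toRingHom.toAlgebra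
  haveI loc1 : IsLocalization.Away ((1 : p.ResidueField) ⊗ₜ[R] g)
      (p.Fiber (Localization.Away g)) :=
    Groth.Agent.H46.isLocalization_away_tensor R p.ResidueField S (Localization.Away g) g
  haveI tower : IsScalarTower p.ResidueField (p.Fiber S) (p.Fiber (Localization.Away g)) :=
    IsScalarTower.of_algebraMap_eq fun k =>
      ((Groth.Agent.H46.tensorAwayMap R p.ResidueField S (Localization.Away g)).commutes k).symm
  have h1g : (1 : p.ResidueField) ⊗ₜ[R] g ∉ Q := by
    intro h
    apply hg
    rw [← hQ]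
    exact h
  let Q' : Ideal (p.Fiber (Localization.Away g)) :=
    Q.map (algebraMap (p.Fiber S) (p.Fiber (Localization.Away g)))
  haveI : Q'.IsPrime := Groth.Agent.H47.CMSlice.isPrime_map_away Q _ _ h1g
  have hc : Q'.comap (algebraMap (p.Fiber S) (p.Fiber (Localization.Away g))) = Q :=
    Groth.Agent.H47.CMSlice.comap_map_away Q _ _ h1g
  refine ⟨Q', inferInstance, ?_,
    nonempty_algEquiv_atPrime_of_isLocalization_away ((1 : p.ResidueField) ⊗ₜ[R] g) Q Q' hc,
    ⟨(IsLocalization.algEquiv (Submonoid.powers ((1 : p.ResidueField) ⊗ₜ[R] g)) _ _).restrictScalars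
      p.ResidueField⟩⟩
  have hcomm : (Algebra.TensorProduct.includeRight.toRingHom :
        Localization.Away g →+* p.Fiber (Localization.Away g)).comp
        (algebraMap S (Localization.Away g)) =
      (algebraMap (p.Fiber S) (p.Fiber (Localization.Away g))).comp
        (Algebra.TensorProduct.includeRight.toRingHom : S →+* p.Fiber S) := by
    ext s
    simp [RingHom.algebraMap_toAlgebra]
  have h2 : (Q'.comap (Algebra.TensorProduct.includeRight.toRingHom :
      Localization.Away g →+* p.Fiber (Localization.Away g))).comap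
      (algebraMap S (Localization.Away g)) = q := by
    rw [Ideal.comap_comap, hcomm, ← Ideal.comap_comap, hc, hQ]
  rw [← h2]
  exact (IsLocalization.map_under (Submonoid.powers g) _ _).symm

end Fibre

section FlatNbhd

theorem flat_localizedModule_iff_atPrime' (R T : Type u) [CommRing R] [CommRing T] [Algebra R T]
    (q : Ideal T) [q.IsPrime] :
    Module.Flat R (LocalizedModule q.primeCompl T) ↔ Module.Flat R (Localization.AtPrime q) := by
  let e : LocalizedModule q.primeCompl T ≃ₗ[T] Localization.AtPrime q :=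
    IsLocalizedModule.linearEquiv q.primeCompl (LocalizedModule.mkLinearMap _ _)
      (Algebra.linearMap T _)
  exact ⟨fun h => .of_linearEquiv (e.restrictScalars R).symm,
    fun h => .of_linearEquiv (e.restrictScalars R)⟩

/-- if a finitely presented `T` is flat over `R` at the prime `q`, it is flat on a principal open
neighbourhood. -/
theorem exists_flat_away_of_fp (R T : Type u) [CommRing R] [CommRing T] [Algebra R T]
    [Algebra.FinitePresentation R T] (q : Ideal T) [q.IsPrime]
    (hq : Module.Flat R (Localization.AtPrime q)) :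
    ∃ g : T, g ∉ q ∧ Module.Flat R (Localization.Away g) := by
  have hopen := Groth.Agent.H1.FlatLocus.isOpen_flatLocus_of_finitePresentation
    (R := R) (S := T) (M := T)
  have hmem : (⟨q, inferInstance⟩ : PrimeSpectrum T) ∈
      Groth.Agent.H1.FlatLocus.flatLocus R (S := T) T :=
    (flat_localizedModule_iff_atPrime' R T q).mpr hq
  obtain ⟨_, ⟨g, rfl⟩, hg, hsub⟩ :=
    PrimeSpectrum.isTopologicalBasis_basic_opens.exists_subset_of_mem_open hmem hopen
  refine ⟨g, hg, ?_⟩
  refine Module.flat_of_isLocalized_maximal (R := R) (Localization.Away g) (Localization.Away g)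
    (fun P _ => Localization.AtPrime P) (fun P _ => Algebra.linearMap _ _) ?_
  intro P hP
  haveI := hP.isPrime
  let P' : Ideal T := P.comap (algebraMap T (Localization.Away g))
  have hgP' : g ∉ P' := by
    intro h
    have h1 : algebraMap T (Localization.Away g) g ∈ P := h
    exact hP.isPrime.ne_top (Ideal.eq_top_of_isUnit_mem _ h1 (IsLocalization.Away.algebraMap_isUnit g))
  have hflat : Module.Flat R (LocalizedModule P'.primeCompl T) :=
    hsub (show (⟨P', inferInstance⟩ : PrimeSpectrum T) ∈ PrimeSpectrum.basicOpen g from hgP')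
  haveI : IsLocalization.AtPrime (Localization.AtPrime P) P' :=
    IsLocalization.isLocalization_isLocalization_atPrime_isLocalization (Submonoid.powers g)
      (Localization.AtPrime P) P
  let e : LocalizedModule P'.primeCompl T ≃ₗ[T] Localization.AtPrime P :=
    IsLocalizedModule.linearEquiv P'.primeCompl (LocalizedModule.mkLinearMap _ _)
      (Algebra.linearMap T _)
  exact .of_linearEquiv (e.restrictScalars R).symm

end FlatNbhd

section LemmaA

open MvPolynomial in
/-- **Local structure**: a flat finitely presented algebra whose fibre local ring at `Q` is a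
complete intersection is, near `q`, a relative global complete intersection. -/
theorem exists_away_relGCI_of_flat (R S : Type u) [CommRing R] [CommRing S] [Algebra R S]
    [Module.Flat R S] [Algebra.FinitePresentation R S]
    (p : Ideal R) [p.IsPrime] (q : Ideal S) [q.IsPrime] [q.LiesOver p]
    (Q : Ideal (p.Fiber S)) [Q.IsPrime]
    (hQ : Q.comap (Algebra.TensorProduct.includeRight.toRingHom) = q)
    (hCI : Synt.IsCIOver p.ResidueField (Localization.AtPrime Q)) :
    ∃ g : S, g ∉ q ∧ ∃ (n c : ℕ) (F : Fin c → MvPolynomial (Fin n) R), Synt.IsRelGCI R n c F ∧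
      Nonempty (Localization.Away g ≃ₐ[R] Synt.RelGCIRing R n c F) := by
  classical
  haveI : Algebra.FiniteType p.ResidueField (p.Fiber S) := inferInstance
  obtain ⟨gbar, hgbarQ, hGCI⟩ := exists_away_isGlobalCI p.ResidueField (p.Fiber S) Q hCI
  have hnt : ¬ Subsingleton (Localization.Away gbar) := by
    intro hsub
    have h01 : algebraMap (p.Fiber S) (Localization.Away gbar) 1 = 0 := Subsingleton.elim _ _
    obtain ⟨⟨_, n, rfl⟩, hn⟩ :=
      (IsLocalization.map_eq_zero_iff (Submonoid.powers gbar) (Localization.Away gbar) 1).1 h01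
    apply hgbarQ
    refine Ideal.IsPrime.mem_of_pow_mem inferInstance n ?_
    rw [mul_one] at hn
    have hn' : gbar ^ n = 0 := hn
    rw [hn']
    exact zero_mem _
  rcases hGCI with hsub | ⟨m, t, htm, φ, r, hφ, hkerφ, hdimφ⟩
  · exact absurd hsub hnt
  obtain ⟨s, hs, g₁, hsg⟩ := Ideal.Fiber.exists_smul_eq_one_tmul p gbar
  have hsu : IsUnit (algebraMap R (p.Fiber S) s) := by
    rw [IsScalarTower.algebraMap_apply R p.ResidueField]
    refine IsUnit.map _ (IsUnit.mk0 _ ?_)
    rwa [ne_eq, Ideal.algebraMap_residueField_eq_zero]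
  have hassoc : Associated ((1 : p.ResidueField) ⊗ₜ[R] g₁) gbar := by
    rw [← hsg, Algebra.smul_def]
    obtain ⟨v, hv⟩ := hsu
    rw [← hv, mul_comm]
    exact (associated_mul_unit_left gbar _ v.isUnit)
  have hg₁q : g₁ ∉ q := by
    intro hmem
    rw [← hQ] at hmem
    have h1 : (1 : p.ResidueField) ⊗ₜ[R] g₁ ∈ Q := hmem
    rw [← hsg, Algebra.smul_def] at h1
    exact hgbarQ ((Ideal.unit_mul_mem_iff_mem _ hsu).1 h1)
  -- the fibre of `T = S_{g₁}`
  letI alg : Algebra (p.Fiber S) (p.Fiber (Localization.Away g₁)) :=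
    (Groth.Agent.H46.tensorAwayMap R p.ResidueField S (Localization.Away g₁)).toRingHom.toAlgebra
  haveI loc1 : IsLocalization.Away ((1 : p.ResidueField) ⊗ₜ[R] g₁)
      (p.Fiber (Localization.Away g₁)) :=
    Groth.Agent.H46.isLocalization_away_tensor R p.ResidueField S (Localization.Away g₁) g₁
  haveI loc2 : IsLocalization.Away gbar (p.Fiber (Localization.Away g₁)) :=
    IsLocalization.Away.of_associated hassoc
  haveI tower : IsScalarTower p.ResidueField (p.Fiber S) (p.Fiber (Localization.Away g₁)) :=
    IsScalarTower.of_algebraMap_eq fun k =>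
      ((Groth.Agent.H46.tensorAwayMap R p.ResidueField S (Localization.Away g₁)).commutes k).symm
  let E : Localization.Away gbar ≃ₐ[p.Fiber S] p.Fiber (Localization.Away g₁) :=
    IsLocalization.algEquiv (Submonoid.powers gbar) _ _
  let Eκ : Localization.Away gbar ≃ₐ[p.ResidueField] p.Fiber (Localization.Away g₁) :=
    E.restrictScalars p.ResidueField
  let β : MvPolynomial (Fin m) p.ResidueField →ₐ[p.ResidueField]
      p.Fiber (Localization.Away g₁) := Eκ.toAlgHom.comp φ
  have hβ : Function.Surjective β := Eκ.surjective.comp hφ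
  have hkerβ : RingHom.ker β.toRingHom = Ideal.span (Set.range r) := by
    rw [← hkerφ]
    ext x
    change Eκ (φ x) = 0 ↔ φ x = 0
    exact map_eq_zero_iff Eκ Eκ.injective
  have hdimβ : ringKrullDim (p.Fiber (Localization.Away g₁)) = ((m - t : ℕ) : WithBot ℕ∞) := by
    rw [← ringKrullDim_eq_of_ringEquiv E.toRingEquiv]
    exact hdimφ
  -- the prime of `T`
  have hdisj : Disjoint (Submonoid.powers g₁ : Set S) (q : Set S) := by
    rw [Set.disjoint_left]
    rintro _ ⟨n, rfl⟩ hmem
    exact hg₁q (Ideal.IsPrime.mem_of_pow_mem inferInstance n hmem)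
  let qT : Ideal (Localization.Away g₁) := q.map (algebraMap S (Localization.Away g₁))
  haveI : qT.IsPrime :=
    IsLocalization.isPrime_of_isPrime_disjoint (Submonoid.powers g₁) _ q inferInstance hdisj
  have hcomap : qT.comap (algebraMap S (Localization.Away g₁)) = q :=
    IsLocalization.under_map_of_isPrime_disjoint (Submonoid.powers g₁) _ inferInstance hdisj
  have hqT : ∀ x : R, x ∈ p ↔ algebraMap R (Localization.Away g₁) x ∈ qT := by
    intro x
    rw [IsScalarTower.algebraMap_apply R S (Localization.Away g₁), ← Ideal.mem_comap, hcomap,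
      Ideal.LiesOver.over (p := p) (P := q)]
    rfl
  haveI : Algebra.FinitePresentation R (Localization.Away g₁) :=
    Algebra.FinitePresentation.trans R S _
  haveI : Module.Flat R (Localization.Away g₁) :=
    Module.Flat.trans R S _
  obtain ⟨u, huq, N, C, G, hRel, ⟨e⟩⟩ :=
    Groth.Agent.H46.SyntLocal.core R (Localization.Away g₁) p qT hqT m t htm β hβ r hkerβ hdimβ
  obtain ⟨g, hgq, ⟨e'⟩⟩ := Groth.Agent.H46.SyntLocal.exists_away_algEquiv R S q g₁ hg₁q u huq
  exact ⟨g, hgq, N, C, G, hRel, ⟨e'.trans e⟩⟩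

end LemmaA

section Main

variable (R S : Type u) [CommRing R] [CommRing S] [Algebra R S]

/-- the local ring of `S` at `q` and of `S_g` at `q S_g`, over `R`. -/
theorem nonempty_algEquiv_atPrime_map_away (q : Ideal S) [q.IsPrime] (g : S) (hg : g ∉ q)
    [(q.map (algebraMap S (Localization.Away g))).IsPrime] :
    Nonempty (Localization.AtPrime q ≃ₐ[R]
      Localization.AtPrime (q.map (algebraMap S (Localization.Away g)))) :=
  nonempty_algEquiv_atPrime_of_isLocalization_away (k := R) g q _
    (Groth.Agent.H47.CMSlice.comap_map_away q (Localization.Away g) g hg)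

theorem liesOver_map_away (p : Ideal R) (q : Ideal S) [q.IsPrime] [q.LiesOver p] (g : S)
    (hg : g ∉ q) : (q.map (algebraMap S (Localization.Away g))).LiesOver p := by
  refine ⟨?_⟩
  rw [Ideal.under_def, IsScalarTower.algebraMap_eq R S (Localization.Away g), ← Ideal.comap_comap,
    Groth.Agent.H47.CMSlice.comap_map_away q (Localization.Away g) g hg]
  exact Ideal.LiesOver.over

theorem relGCI_nhd_of_syntomic_nhd (q : Ideal S) [q.IsPrime]
    (h : ∃ g : S, g ∉ q ∧ Synt.IsSyntomic R (Localization.Away g)) :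
    ∃ g : S, g ∉ q ∧ ∃ (n c : ℕ) (F : Fin c → MvPolynomial (Fin n) R), Synt.IsRelGCI R n c F ∧
      Nonempty (Localization.Away g ≃ₐ[R] Synt.RelGCIRing R n c F) := by
  obtain ⟨g, hg, hsyn⟩ := h
  haveI := Groth.Agent.H47.CMSlice.isPrime_map_away q (Localization.Away g) g hg
  obtain ⟨u, hu, n, c, F, hRel, ⟨e⟩⟩ := Groth.Agent.H46.SyntLocal.main R (Localization.Away g) hsyn
    (q.map (algebraMap S (Localization.Away g)))
  obtain ⟨g', hg', ⟨e'⟩⟩ := Groth.Agent.H46.SyntLocal.exists_away_algEquiv R S q g hg u hu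
  exact ⟨g', hg', n, c, F, hRel, ⟨e'.trans e⟩⟩

theorem syntomic_nhd_of_relGCI_nhd (q : Ideal S) [q.IsPrime]
    (h : ∃ g : S, g ∉ q ∧ ∃ (n c : ℕ) (F : Fin c → MvPolynomial (Fin n) R), Synt.IsRelGCI R n c F ∧
      Nonempty (Localization.Away g ≃ₐ[R] Synt.RelGCIRing R n c F)) :
    ∃ g : S, g ∉ q ∧ Synt.IsSyntomic R (Localization.Away g) := by
  obtain ⟨g, hg, n, c, F, hRel, ⟨e⟩⟩ := h
  exact ⟨g, hg, Groth.Agent.H47.Synt.isSyntomic_of_algEquiv e.symm
    (Groth.Agent.H46.RelGCIFlat.isSyntomic R n c F hRel)⟩

theorem local_conditions_of_syntomic_nhd (p : Ideal R) [p.IsPrime] (q : Ideal S) [q.IsPrime]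
    [q.LiesOver p] (Q : Ideal (p.Fiber S)) [Q.IsPrime]
    (hQ : Q.comap (Algebra.TensorProduct.includeRight.toRingHom) = q)
    (h : ∃ g : S, g ∉ q ∧ Synt.IsSyntomic R (Localization.Away g)) :
    ∃ g : S, g ∉ q ∧ Algebra.FinitePresentation R (Localization.Away g) ∧
      Module.Flat R (Localization.AtPrime q) ∧
      Synt.IsCIOver p.ResidueField (Localization.AtPrime Q) := by
  obtain ⟨g, hg, hflat, hfp, hfib⟩ := h
  refine ⟨g, hg, hfp, ?_, ?_⟩
  · haveI := Groth.Agent.H47.CMSlice.isPrime_map_away q (Localization.Away g) g hg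
    obtain ⟨e⟩ := nonempty_algEquiv_atPrime_map_away R S q g hg
    haveI : Module.Flat (Localization.Away g)
        (Localization.AtPrime (q.map (algebraMap S (Localization.Away g)))) :=
      IsLocalization.flat _ (q.map (algebraMap S (Localization.Away g))).primeCompl
    haveI : Module.Flat R (Localization.AtPrime (q.map (algebraMap S (Localization.Away g)))) :=
      Module.Flat.trans R (Localization.Away g) _
    exact Module.Flat.of_linearEquiv e.toLinearEquiv
  · obtain ⟨Q', hQ'prime, -, ⟨eQ⟩, -⟩ := exists_fibre_prime_away R S p q Q hQ g hg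
    exact isCIOver_of_algEquiv p.ResidueField eQ.symm
      (isCIOver_atPrime_of_isLCIOver p.ResidueField (hfib ⟨p, inferInstance⟩) Q')

theorem relGCI_nhd_of_local_conditions (p : Ideal R) [p.IsPrime] (q : Ideal S) [q.IsPrime]
    [q.LiesOver p] (Q : Ideal (p.Fiber S)) [Q.IsPrime]
    (hQ : Q.comap (Algebra.TensorProduct.includeRight.toRingHom) = q)
    (h : ∃ g : S, g ∉ q ∧ Algebra.FinitePresentation R (Localization.Away g) ∧
      Module.Flat R (Localization.AtPrime q) ∧
      Synt.IsCIOver p.ResidueField (Localization.AtPrime Q)) :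
    ∃ g : S, g ∉ q ∧ ∃ (n c : ℕ) (F : Fin c → MvPolynomial (Fin n) R), Synt.IsRelGCI R n c F ∧
      Nonempty (Localization.Away g ≃ₐ[R] Synt.RelGCIRing R n c F) := by
  obtain ⟨g, hg, hfp, hflat, hCI⟩ := h
  -- a flat finitely presented neighbourhood
  haveI := Groth.Agent.H47.CMSlice.isPrime_map_away q (Localization.Away g) g hg
  obtain ⟨e⟩ := nonempty_algEquiv_atPrime_map_away R S q g hg
  have hflat' : Module.Flat R
      (Localization.AtPrime (q.map (algebraMap S (Localization.Away g)))) :=
    Module.Flat.of_linearEquiv e.symm.toLinearEquiv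
  obtain ⟨u, hu, hflatu⟩ := exists_flat_away_of_fp R (Localization.Away g)
    (q.map (algebraMap S (Localization.Away g))) hflat'
  obtain ⟨g₁, hg₁, ⟨e₁⟩⟩ := Groth.Agent.H46.SyntLocal.exists_away_algEquiv R S q g hg u hu
  haveI : Algebra.FinitePresentation R (Localization.Away u) :=
    Algebra.FinitePresentation.trans R (Localization.Away g) _
  haveI : Algebra.FinitePresentation R (Localization.Away g₁) :=
    Algebra.FinitePresentation.equiv e₁.symm
  haveI : Module.Flat R (Localization.Away g₁) := Module.Flat.of_linearEquiv e₁.toLinearEquiv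
  -- the fibre prime
  obtain ⟨Q₁, hQ₁prime, hQ₁, ⟨eQ⟩, -⟩ := exists_fibre_prime_away R S p q Q hQ g₁ hg₁
  haveI := Groth.Agent.H47.CMSlice.isPrime_map_away q (Localization.Away g₁) g₁ hg₁
  haveI := liesOver_map_away R S p q g₁ hg₁
  obtain ⟨g', hg', n, c, F, hRel, ⟨e'⟩⟩ := exists_away_relGCI_of_flat R (Localization.Away g₁) p
    (q.map (algebraMap S (Localization.Away g₁))) Q₁ hQ₁
    (isCIOver_of_algEquiv p.ResidueField eQ hCI)
  obtain ⟨g'', hg'', ⟨e''⟩⟩ := Groth.Agent.H46.SyntLocal.exists_away_algEquiv R S q g₁ hg₁ g' hg'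
  exact ⟨g'', hg'', n, c, F, hRel, ⟨e''.trans e'⟩⟩

/-- S9169 -/
theorem syntomic_nhd_iff (p : Ideal R) [p.IsPrime] (q : Ideal S) [q.IsPrime] [q.LiesOver p]
    (Q : Ideal (p.Fiber S)) [Q.IsPrime]
    (hQ : Q.comap (Algebra.TensorProduct.includeRight.toRingHom) = q) :
    ((∃ g : S, g ∉ q ∧ Synt.IsSyntomic R (Localization.Away g)) ↔
        ∃ g : S, g ∉ q ∧ ∃ (n c : ℕ) (F : Fin c → MvPolynomial (Fin n) R), Synt.IsRelGCI R n c F ∧
          Nonempty (Localization.Away g ≃ₐ[R] Synt.RelGCIRing R n c F)) ∧
      ((∃ g : S, g ∉ q ∧ Synt.IsSyntomic R (Localization.Away g)) ↔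
        ∃ g : S, g ∉ q ∧ Algebra.FinitePresentation R (Localization.Away g) ∧
          Module.Flat R (Localization.AtPrime q) ∧
          Synt.IsCIOver p.ResidueField (Localization.AtPrime Q)) :=
  ⟨⟨relGCI_nhd_of_syntomic_nhd R S q, syntomic_nhd_of_relGCI_nhd R S q⟩,
    ⟨local_conditions_of_syntomic_nhd R S p q Q hQ, fun h =>
      syntomic_nhd_of_relGCI_nhd R S q (relGCI_nhd_of_local_conditions R S p q Q hQ h)⟩⟩

end Main

end Groth.Agent.H47.CI
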