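import Mathlib
import Groth.Prelude.Def_Pi1
import Groth.Agent.H20.ComplBij
import Groth.Agent.Lead.RegularCompletion

/-!
# Absolute complete intersections: transport along isomorphisms; regular local rings
-/

set_option autoImplicit false
set_option linter.style.haveILetI false
set_option linter.unusedSectionVars false

universe u

namespace Groth.Agent.H47.CI

open IsLocalRing RingTheory.Sequence

/-- isomorphic local rings have isomorphic completions -/
theorem nonempty_ringEquiv_adicCompletion {A A' : Type u} [CommRing A] [CommRing A']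
    [IsLocalRing A] [IsLocalRing A'] (e : A ≃+* A') :
    Nonempty (AdicCompletion (maximalIdeal A) A ≃+* AdicCompletion (maximalIdeal A') A') := by
  have hmap : (maximalIdeal A).map (e : A →+* A') = maximalIdeal A' :=
    IsLocalRing.map_maximalIdeal_of_surjective _ e.surjective
  have hle : (maximalIdeal A).map (e : A →+* A') ≤ maximalIdeal A' := hmap.le
  refine ⟨RingEquiv.ofBijective _ (Groth.Agent.H20.complMap_bijective (maximalIdeal A)
    (maximalIdeal A') (e : A →+* A') hle fun n => ⟨?_, ?_⟩)⟩
  · apply Ideal.quotientMap_injective'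
    intro x hx
    rw [Ideal.mem_comap, ← hmap, ← Ideal.map_pow] at hx
    obtain ⟨y, hy, hxy⟩ := (Ideal.mem_map_iff_of_surjective (e : A →+* A') e.surjective).mp hx
    have : y = x := e.injective hxy
    rwa [← this]
  · exact Ideal.quotientMap_surjective e.surjective

theorem isCompleteIntersection_of_ringEquiv {A A' : Type u} [CommRing A] [CommRing A']
    [IsLocalRing A] [IsLocalRing A'] (e : A ≃+* A') (h : Pi1.IsCompleteIntersection A) :
    Pi1.IsCompleteIntersection A' := by
  obtain ⟨B, i1, i2, rs, hmem, hreg, ⟨e'⟩⟩ := h
  obtain ⟨ε⟩ := nonempty_ringEquiv_adicCompletion e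
  exact ⟨B, i1, i2, rs, hmem, hreg, ⟨ε.symm.trans e'⟩⟩

theorem isCompleteIntersection_iff_of_ringEquiv {A A' : Type u} [CommRing A] [CommRing A']
    [IsLocalRing A] [IsLocalRing A'] (e : A ≃+* A') :
    Pi1.IsCompleteIntersection A ↔ Pi1.IsCompleteIntersection A' :=
  ⟨isCompleteIntersection_of_ringEquiv e, isCompleteIntersection_of_ringEquiv e.symm⟩

/-- a regular local ring is a complete intersection -/
theorem isCompleteIntersection_of_isRegularLocalRing (A : Type u) [CommRing A]
    [IsRegularLocalRing A] : Pi1.IsCompleteIntersection A := by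
  haveI : IsRegularLocalRing (AdicCompletion (maximalIdeal A) A) :=
    Groth.Agent.Lead.RLR.isRegularLocalRing_adicCompletion A
  refine ⟨AdicCompletion (maximalIdeal A) A, inferInstance, inferInstance, [], ?_, ?_, ⟨?_⟩⟩
  · intro r hr
    simp at hr
  · exact IsRegular.nil _ _
  · have h : Ideal.span {r : AdicCompletion (maximalIdeal A) A | r ∈ ([] : List _)} = ⊥ := by
      simp
    exact (RingEquiv.quotientBot _).symm.trans (Ideal.quotEquivOfEq h.symm)

end Groth.Agent.H47.CI
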