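import Mathlib
import Groth.Prelude.Def_Pi1
import Groth.Prelude.Def_RegImm
import Groth.Agent.H47.CI.AbsCI
import Groth.Agent.H47.CI.AbsCITransfer
import Groth.Agent.H47.CI.Local
import Groth.Agent.H47.CI.GlobalLocal

/-!
# Complete intersections over a field versus absolute complete intersections
-/

set_option autoImplicit false
set_option linter.style.haveILetI false
set_option linter.unusedSectionVars false

universe u

namespace Groth.Agent.H47.CI

open IsLocalRing RingTheory.Sequence

variable (k : Type u) [Field k]

/-- a complete intersection over a field is an absolute complete intersection -/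
theorem isCompleteIntersection_of_isCIOver {S : Type u} [CommRing S] [IsLocalRing S]
    [Algebra k S] (h : Synt.IsCIOver k S) : Pi1.IsCompleteIntersection S := by
  obtain ⟨R, _, _, _, -, rs, hmem, hreg, ⟨e⟩⟩ := h
  have hne : Ideal.ofList rs ≠ ⊤ := ofList_ne_top_of_isRegular R rs hreg
  haveI : IsLocalRing (R ⧸ Ideal.ofList rs) :=
    Groth.Agent.Lead.RLR.isLocalRing_quotient R _ hne
  have h1 : Pi1.IsCompleteIntersection (R ⧸ Ideal.ofList rs) :=
    isCompleteIntersection_quotient_of_isRegular R (Ideal.ofList rs) ⟨rs, hreg, rfl⟩
  exact isCompleteIntersection_of_ringEquiv e.symm.toRingEquiv h1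

/-- an absolute complete intersection which is a quotient of a regular local ring essentially of
finite type over `k` is a complete intersection over `k` -/
theorem isCIOver_of_isCompleteIntersection {S : Type u} [CommRing S] [IsLocalRing S]
    [Algebra k S] (R : Type u) [CommRing R] [IsRegularLocalRing R] [Algebra k R]
    (hR : Algebra.EssFiniteType k R) (π : R →ₐ[k] S) (hπ : Function.Surjective π)
    (h : Pi1.IsCompleteIntersection S) : Synt.IsCIOver k S := by
  have hne : RingHom.ker π.toRingHom ≠ ⊤ := RingHom.ker_ne_top _
  haveI : IsLocalRing (R ⧸ RingHom.ker π.toRingHom) :=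
    Groth.Agent.Lead.RLR.isLocalRing_quotient R _ hne
  let eq : (R ⧸ RingHom.ker π.toRingHom) ≃+* S :=
    RingHom.quotientKerEquivOfSurjective (f := π.toRingHom) hπ
  have h1 : Pi1.IsCompleteIntersection (R ⧸ RingHom.ker π.toRingHom) :=
    isCompleteIntersection_of_ringEquiv eq.symm h
  obtain ⟨rs, hreg, hker⟩ :=
    exists_isRegular_of_isCompleteIntersection_quotient R (RingHom.ker π.toRingHom) h1
  exact isCIOver_of_surjective k R hR π hπ rs hreg hker

/-- for local rings of finite type algebras the two notions agree -/
theorem isCIOver_atPrime_iff_isCompleteIntersection (A : Type u) [CommRing A] [Algebra k A]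
    [Algebra.FiniteType k A] (a : Ideal A) [a.IsPrime] :
    Synt.IsCIOver k (Localization.AtPrime a) ↔
      Pi1.IsCompleteIntersection (Localization.AtPrime a) := by
  refine ⟨isCompleteIntersection_of_isCIOver k, fun h => ?_⟩
  obtain ⟨n, φ, hφ⟩ := Algebra.FiniteType.iff_quotient_mvPolynomial''.mp
    (inferInstance : Algebra.FiniteType k A)
  obtain ⟨π, hπ, -, -⟩ := exists_localAlgHom k φ hφ a
  exact isCIOver_of_isCompleteIntersection k (Localization.AtPrime (a.comap φ)) inferInstance π hπ h

end Groth.Agent.H47.CI
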