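import Mathlib
import Groth.Prelude.Def_CInt
import Groth.Agent.H49.FibreStalk

/-!
# The local ring of a fibre in affine charts
-/

set_option autoImplicit false
set_option linter.style.haveILetI false
set_option linter.unusedSectionVars false

universe u

namespace Groth.Agent.H47.CI

open AlgebraicGeometry CategoryTheory TensorProduct IsLocalRing

section Ring

/-- the local ring of the fibre ring `κ(p) ⊗ A` at `Q` is `A_q ⧸ p A_q`, for any model `Aq` of the
localization of `A` at the contraction `q` of `Q` -/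
theorem nonempty_ringEquiv_fiber_atPrime {R A : Type u} [CommRing R] [CommRing A] [Algebra R A]
    (p : Ideal R) [p.IsPrime] (Q : Ideal (p.Fiber A)) [Q.IsPrime] (q : Ideal A) [q.IsPrime]
    (hQ : Q.comap Algebra.TensorProduct.includeRight.toRingHom = q)
    (Aq : Type u) [CommRing Aq] [Algebra A Aq] [IsLocalization.AtPrime Aq q] [Algebra R Aq]
    [IsScalarTower R A Aq] :
    Nonempty (Localization.AtPrime Q ≃+* Aq ⧸ p.map (algebraMap R Aq)) := by
  subst hQ
  let e₂ := Ideal.Fiber.algEquivAux₂ p Q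
  let Sr := Localization.AtPrime (Q.comap (Algebra.TensorProduct.includeRight :
    A →ₐ[R] p.Fiber A))
  haveI : IsLocalization.AtPrime Aq (Q.comap (Algebra.TensorProduct.includeRight :
      A →ₐ[R] p.Fiber A)) := ‹_›
  let e₃ : Sr ≃ₐ[A] Aq := IsLocalization.algEquiv
    (Q.comap (Algebra.TensorProduct.includeRight : A →ₐ[R] p.Fiber A)).primeCompl Sr Aq
  have hIJ : p.map (algebraMap R Aq) =
      ((p.map (algebraMap R A)).map (algebraMap A Sr)).map (e₃.toRingEquiv : Sr →+* Aq) := by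
    rw [Ideal.map_map, Ideal.map_map, IsScalarTower.algebraMap_eq R A Aq]
    congr 1
    ext r
    simp [e₃]
  exact ⟨e₂.toRingEquiv.trans (Ideal.quotientEquiv _ _ e₃.toRingEquiv hIJ)⟩

end Ring

section Scheme

open Groth.Agent.H49.FibreStalk

variable {X S : Scheme.{u}} (f : X ⟶ S)

/-- the ideal `p O_{X,x}` is the fibre ideal `m_{f x} O_{X,x}` -/
theorem map_primeIdealOf_eq_fibreIdeal (U : X.Opens) (_hU : IsAffineOpen U) (V : S.Opens)
    (hV : IsAffineOpen V) (e : U ≤ f ⁻¹ᵁ V) (x : X) (hx : x ∈ U) :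
    (hV.primeIdealOf ⟨f x, e hx⟩).asIdeal.map
      ((X.presheaf.germ U x hx).hom.comp (f.appLE V U e).hom) = fibreIdeal f x := by
  letI := TopCat.Presheaf.algebra_section_stalk S.presheaf (⟨f x, e hx⟩ : V)
  haveI := hV.isLocalization_stalk ⟨f x, e hx⟩
  have h1 : (hV.primeIdealOf ⟨f x, e hx⟩).asIdeal.map
      (algebraMap Γ(S, V) (S.presheaf.stalk (f x))) = maximalIdeal (S.presheaf.stalk (f x)) :=
    IsLocalization.AtPrime.map_eq_maximalIdeal _ _
  have h2 : (X.presheaf.germ U x hx).hom.comp (f.appLE V U e).hom =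
      (f.stalkMap x).hom.comp (S.presheaf.germ V (f x) (e hx)).hom := by
    rw [← CommRingCat.hom_comp, ← CommRingCat.hom_comp, Scheme.Hom.germ_stalkMap,
      Scheme.Hom.appLE, Category.assoc, TopCat.Presheaf.germ_res]
  rw [fibreIdeal, ← h1, Ideal.map_map, h2]
  rfl

/-- **The local ring of the fibre through `x` in affine charts**: it is the local ring of the
fibre ring `κ(p) ⊗ Γ(X, U)` at the prime corresponding to `x`. -/
theorem nonempty_ringEquiv_fiberStalk (U : X.Opens) (hU : IsAffineOpen U) (V : S.Opens)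
    (hV : IsAffineOpen V) (e : U ≤ f ⁻¹ᵁ V) (x : X) (hx : x ∈ U) :
    letI := (f.appLE V U e).hom.toAlgebra
    ∀ (Q : Ideal ((hV.primeIdealOf ⟨f x, e hx⟩).asIdeal.Fiber Γ(X, U))) [Q.IsPrime],
      Q.comap Algebra.TensorProduct.includeRight.toRingHom =
        (hU.primeIdealOf ⟨x, hx⟩).asIdeal →
      Nonempty (Localization.AtPrime Q ≃+* CInt.fiberStalk f x) := by
  letI := (f.appLE V U e).hom.toAlgebra
  intro Q _ hQ
  letI algA : Algebra Γ(X, U) (X.presheaf.stalk x) :=
    TopCat.Presheaf.algebra_section_stalk X.presheaf (⟨x, hx⟩ : U)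
  haveI := hU.isLocalization_stalk ⟨x, hx⟩
  letI algR : Algebra Γ(S, V) (X.presheaf.stalk x) :=
    ((X.presheaf.germ U x hx).hom.comp (f.appLE V U e).hom).toAlgebra
  haveI : IsScalarTower Γ(S, V) Γ(X, U) (X.presheaf.stalk x) :=
    IsScalarTower.of_algebraMap_eq' rfl
  obtain ⟨ε⟩ := nonempty_ringEquiv_fiber_atPrime (hV.primeIdealOf ⟨f x, e hx⟩).asIdeal Q
    (hU.primeIdealOf ⟨x, hx⟩).asIdeal hQ (X.presheaf.stalk x)
  have hideal : (hV.primeIdealOf ⟨f x, e hx⟩).asIdeal.map
      (algebraMap Γ(S, V) (X.presheaf.stalk x)) = fibreIdeal f x :=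
    map_primeIdealOf_eq_fibreIdeal f U hU V hV e x hx
  exact ⟨ε.trans ((Ideal.quotEquivOfEq hideal).trans (quotientEquivStalkAsFiber f x))⟩

end Scheme

end Groth.Agent.H47.CI
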