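import Mathlib
import Groth.Prelude.Def_RegImm
import Groth.Agent.H47.CI.Rows
import Groth.Agent.H47.Synt.Scheme
import Groth.Agent.H47.Synt.Fibres

/-!
# Local complete intersections over a field: schemes (S9368)
-/

set_option autoImplicit false
set_option linter.style.haveILetI false
set_option linter.unusedSectionVars false

universe u

namespace Groth.Agent.H47.CI

open AlgebraicGeometry CategoryTheory TensorProduct Groth.Agent.H47.Synt

/-- Over a field, a local complete intersection is syntomic. -/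
theorem isSyntomic_of_isLCIOver_field {k B : Type u} [Field k] [CommRing B] [Algebra k B]
    (h : Synt.IsLCIOver k B) : Synt.IsSyntomic k B := by
  haveI : Algebra.FiniteType k B := h.1
  refine ⟨inferInstance, Algebra.FinitePresentation.of_finiteType.mp h.1, fun p => ?_⟩
  have hp0 : p.asIdeal = ⊥ := Ideal.eq_bot_of_prime p.asIdeal
  haveI : p.asIdeal.IsMaximal := hp0 ▸ Ideal.bot_isMaximal
  have hb : Function.Bijective (algebraMap k p.asIdeal.ResidueField) :=
    ⟨(algebraMap k p.asIdeal.ResidueField).injective,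
      Ideal.algebraMap_residueField_surjective p.asIdeal⟩
  let e₀ : k ≃ₐ[k] p.asIdeal.ResidueField :=
    AlgEquiv.ofBijective (Algebra.ofId k p.asIdeal.ResidueField) hb
  let e : p.asIdeal.ResidueField ⊗[k] B ≃ₐ[k] B :=
    (Algebra.TensorProduct.congr e₀.symm (AlgEquiv.refl (R := k) (A₁ := B))).trans
      (Algebra.TensorProduct.lid k B)
  have h1 : Synt.IsLCIOver k (p.asIdeal.ResidueField ⊗[k] B) := isLCIOver_of_algEquiv e.symm h
  exact isLCIOver_of_tower hb h1

section scheme

variable (k : Type u) [Field k] (X : Scheme.{u}) (p : X ⟶ Spec (CommRingCat.of k))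

/-- the structure map `k → Γ(X, U)` -/
noncomputable def strMap (U : X.Opens) : CommRingCat.of k ⟶ Γ(X, U) :=
  (Scheme.ΓSpecIso (CommRingCat.of k)).inv ≫ p.appLE ⊤ U le_top

/-- the `k`-algebra structure on `Γ(X, U)` -/
@[reducible] noncomputable def algΓ (U : X.Opens) : Algebra k Γ(X, U) :=
  (strMap k X p U).hom.toAlgebra

/-- the `k`-algebra structure on the stalk at `x` -/
@[reducible] noncomputable def algStalk (x : X) : Algebra k (X.presheaf.stalk x) :=
  ((Scheme.ΓSpecIso (CommRingCat.of k)).inv ≫ p.appLE ⊤ ⊤ le_top ≫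
    X.presheaf.germ ⊤ x trivial).hom.toAlgebra

theorem syntHom_strMap_iff (U : X.Opens) :
    SyntHom (strMap k X p U).hom ↔ SyntHom (p.appLE ⊤ U le_top).hom :=
  syntHom_respectsIso.cancel_left_isIso _ _

theorem isLCIOver_of_isSyntomicMor (h : Synt.IsSyntomicMor p) (U : X.Opens)
    (hU : IsAffineOpen U) : @Synt.IsLCIOver k _ Γ(X, U) _ (algΓ k X p U) := by
  have h1 := (isSyntomicMor_iff_forall p).mp h ⟨U, hU⟩ ⟨⊤, isAffineOpen_top _⟩ le_top
  have h2 : SyntHom (p.appLE ⊤ U le_top).hom := h1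
  have h3 : SyntHom (strMap k X p U).hom := (syntHom_strMap_iff k X p U).mpr h2
  letI := algΓ k X p U
  exact isLCIOver_of_isSyntomic_field h3

theorem isSyntomicAt_of_isLCIOver (U : X.Opens) (hU : IsAffineOpen U) (x : X) (hx : x ∈ U)
    (h : @Synt.IsLCIOver k _ Γ(X, U) _ (algΓ k X p U)) : Synt.IsSyntomicAt p x := by
  letI := algΓ k X p U
  have h3 : SyntHom (strMap k X p U).hom := isSyntomic_of_isLCIOver_field h
  have h2 : SyntHom (p.appLE ⊤ U le_top).hom := (syntHom_strMap_iff k X p U).mp h3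
  exact ⟨⟨U, hU⟩, ⟨⊤, isAffineOpen_top _⟩, le_top, hx, h2⟩

theorem finiteType_Γ [LocallyOfFiniteType p] (U : X.Opens) (hU : IsAffineOpen U) :
    @Algebra.FiniteType k Γ(X, U) _ _ (algΓ k X p U) := by
  have h1 : (p.appLE ⊤ U le_top).hom.FiniteType :=
    HasRingHomProperty.appLE (P := @LocallyOfFiniteType) p inferInstance
      ⟨⊤, isAffineOpen_top _⟩ ⟨U, hU⟩ le_top
  have h2 : ((Scheme.ΓSpecIso (CommRingCat.of k)).inv).hom.FiniteType :=
    RingHom.FiniteType.of_surjective _
      ((ConcreteCategory.bijective_of_isIso (Scheme.ΓSpecIso (CommRingCat.of k)).inv).2)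
  exact h1.comp h2

/-- the stalk at `x ∈ U` is the localization of `Γ(X, U)` at the prime of `x`, over `k` -/
theorem nonempty_algEquiv_stalk (U : X.Opens) (hU : IsAffineOpen U) (x : X) (hx : x ∈ U) :
    letI := algΓ k X p U
    letI := algStalk k X p x
    Nonempty (Localization.AtPrime (hU.primeIdealOf ⟨x, hx⟩).asIdeal ≃ₐ[k]
      X.presheaf.stalk x) := by
  letI := algΓ k X p U
  letI := algStalk k X p x
  letI := TopCat.Presheaf.algebra_section_stalk X.presheaf ⟨x, hx⟩
  haveI := hU.isLocalization_stalk ⟨x, hx⟩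
  haveI : IsScalarTower k Γ(X, U) (X.presheaf.stalk x) :=
    IsScalarTower.of_algebraMap_eq (fun a => by
      change (X.presheaf.germ ⊤ x trivial).hom ((p.appLE ⊤ ⊤ le_top).hom
          ((Scheme.ΓSpecIso (CommRingCat.of k)).inv.hom a)) =
        (X.presheaf.germ U x hx).hom ((p.appLE ⊤ U le_top).hom
          ((Scheme.ΓSpecIso (CommRingCat.of k)).inv.hom a))
      rw [← Scheme.Hom.appLE_map p (le_top : (⊤ : X.Opens) ≤ p ⁻¹ᵁ ⊤)
        (homOfLE (le_top : U ≤ ⊤)).op]
      rw [CommRingCat.hom_comp, RingHom.comp_apply]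
      exact (congrArg (fun f => f.hom ((p.appLE ⊤ ⊤ le_top).hom
        ((Scheme.ΓSpecIso (CommRingCat.of k)).inv.hom a)))
        (TopCat.Presheaf.germ_res X.presheaf (homOfLE (le_top : U ≤ ⊤)) x hx)).symm)
  let e : Localization.AtPrime (hU.primeIdealOf ⟨x, hx⟩).asIdeal ≃ₐ[Γ(X, U)]
      X.presheaf.stalk x :=
    IsLocalization.algEquiv (hU.primeIdealOf ⟨x, hx⟩).asIdeal.primeCompl _ _
  exact ⟨e.restrictScalars k⟩

/-- sections over a basic open are the localization, over `k` -/
theorem nonempty_algEquiv_basicOpen (U : X.Opens) (hU : IsAffineOpen U) (g : Γ(X, U)) :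
    letI := algΓ k X p U
    letI := algΓ k X p (X.basicOpen g)
    Nonempty (Localization.Away g ≃ₐ[k] Γ(X, X.basicOpen g)) := by
  letI := algΓ k X p U
  letI := algΓ k X p (X.basicOpen g)
  haveI := hU.isLocalization_basicOpen g
  have hle : X.basicOpen g ≤ U := X.basicOpen_le g
  haveI : IsScalarTower k Γ(X, U) Γ(X, X.basicOpen g) :=
    IsScalarTower.of_algebraMap_eq (fun a => by
      change (p.appLE ⊤ (X.basicOpen g) le_top).hom
          ((Scheme.ΓSpecIso (CommRingCat.of k)).inv.hom a) =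
        (X.presheaf.map (homOfLE hle).op).hom ((p.appLE ⊤ U le_top).hom
          ((Scheme.ΓSpecIso (CommRingCat.of k)).inv.hom a))
      rw [← Scheme.Hom.appLE_map p (le_top : U ≤ p ⁻¹ᵁ ⊤) (homOfLE hle).op]
      rfl)
  let e : Localization.Away g ≃ₐ[Γ(X, U)] Γ(X, X.basicOpen g) :=
    IsLocalization.algEquiv (Submonoid.powers g) _ _
  exact ⟨e.restrictScalars k⟩

end scheme

end Groth.Agent.H47.CI
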