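import Mathlib
import Groth.Prelude.Def_RegImm
import Groth.Agent.H47.CI.Scheme

/-!
# Local complete intersections over a field: the scheme-level TFAE (S9368)
-/

set_option autoImplicit false
set_option linter.style.haveILetI false
set_option linter.unusedSectionVars false

universe u

namespace Groth.Agent.H47.CI

open AlgebraicGeometry CategoryTheory TensorProduct Groth.Agent.H47.Synt

variable (k : Type u) [Field k] (X : Scheme.{u}) (p : X ⟶ Spec (CommRingCat.of k))

/-- membership in a basic open in terms of the prime of the point -/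
theorem mem_basicOpen_of_notMem (U : X.Opens) (hU : IsAffineOpen U) (x : X) (hx : x ∈ U)
    (g : Γ(X, U)) (hg : g ∉ (hU.primeIdealOf ⟨x, hx⟩).asIdeal) : x ∈ X.basicOpen g := by
  letI := TopCat.Presheaf.algebra_section_stalk X.presheaf ⟨x, hx⟩
  haveI := hU.isLocalization_stalk ⟨x, hx⟩
  rw [X.mem_basicOpen g x hx]
  exact (IsLocalization.AtPrime.isUnit_to_map_iff (X.presheaf.stalk x)
    (hU.primeIdealOf ⟨x, hx⟩).asIdeal g).mpr hg

/-- a global complete intersection basic open neighbourhood from a local one -/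
theorem exists_affine_globalCI (U : X.Opens) (hU : IsAffineOpen U) (x : X) (hx : x ∈ U)
    (g : Γ(X, U)) (hg : g ∉ (hU.primeIdealOf ⟨x, hx⟩).asIdeal)
    (hG : letI := algΓ k X p U
      Synt.IsGlobalCI k (Localization.Away g)) :
    ∃ U' : X.affineOpens, x ∈ U'.1 ∧ @Synt.IsGlobalCI k _ Γ(X, U'.1) _ (algΓ k X p U'.1) := by
  letI := algΓ k X p U
  letI := algΓ k X p (X.basicOpen g)
  obtain ⟨e⟩ := nonempty_algEquiv_basicOpen k X p U hU g
  exact ⟨⟨X.basicOpen g, hU.basicOpen g⟩, mem_basicOpen_of_notMem X U hU x hx g hg,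
    Groth.Agent.H46.isGlobalCI_of_algEquiv e hG⟩

theorem lci_tfae [LocallyOfFiniteType p] :
    [Synt.IsSyntomicMor p,
      ∀ x : ↑X, ∃ U : X.affineOpens, x ∈ U.1 ∧
        letI := ((Scheme.ΓSpecIso (CommRingCat.of k)).inv ≫ p.appLE ⊤ U.1 le_top).hom.toAlgebra
        Synt.IsGlobalCI k Γ(X, U.1),
      ∀ x : ↑X,
        letI := ((Scheme.ΓSpecIso (CommRingCat.of k)).inv ≫ p.appLE ⊤ ⊤ le_top ≫
          X.presheaf.germ ⊤ x trivial).hom.toAlgebra
        Synt.IsCIOver k (X.presheaf.stalk x)].TFAE := by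
  have hcover : ∀ x : X, ∃ U : X.Opens, IsAffineOpen U ∧ x ∈ U := by
    intro x
    obtain ⟨U, hU, hxU, -⟩ := TopologicalSpace.Opens.isBasis_iff_nbhd.mp X.isBasis_affineOpens
      (show x ∈ (⊤ : X.Opens) from trivial)
    exact ⟨U, hU, hxU⟩
  tfae_have 1 → 2 := by
    intro h x
    obtain ⟨U, hU, hxU⟩ := hcover x
    have hL := isLCIOver_of_isSyntomicMor k X p h U hU
    letI := algΓ k X p U
    obtain ⟨g, hg, hG⟩ := hL.2 (hU.primeIdealOf ⟨x, hxU⟩)
    exact exists_affine_globalCI k X p U hU x hxU g hg hG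
  tfae_have 2 → 1 := by
    intro h x
    obtain ⟨U, hxU, hG⟩ := h x
    letI := algΓ k X p U.1
    exact isSyntomicAt_of_isLCIOver k X p U.1 U.2 x hxU (isLCIOver_of_isGlobalCI k hG)
  tfae_have 2 → 3 := by
    intro h x
    obtain ⟨U, hxU, hG⟩ := h x
    letI := algΓ k X p U.1
    letI := algStalk k X p x
    obtain ⟨e⟩ := nonempty_algEquiv_stalk k X p U.1 U.2 x hxU
    exact isCIOver_of_algEquiv k e
      (isCIOver_atPrime_of_isGlobalCI k hG (U.2.primeIdealOf ⟨x, hxU⟩).asIdeal)
  tfae_have 3 → 2 := by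
    intro h x
    obtain ⟨U, hU, hxU⟩ := hcover x
    letI := algΓ k X p U
    letI := algStalk k X p x
    haveI : Algebra.FiniteType k Γ(X, U) := finiteType_Γ k X p U hU
    obtain ⟨e⟩ := nonempty_algEquiv_stalk k X p U hU x hxU
    have hCI : Synt.IsCIOver k (Localization.AtPrime (hU.primeIdealOf ⟨x, hxU⟩).asIdeal) :=
      isCIOver_of_algEquiv k e.symm (h x)
    obtain ⟨g, hg, hG⟩ := exists_away_isGlobalCI k Γ(X, U) _ hCI
    exact exists_affine_globalCI k X p U hU x hxU g hg hG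
  tfae_finish

end Groth.Agent.H47.CI
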