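import Mathlib
import Groth.Prelude.Def_CInt
import Groth.Prelude.Def_RegImm
import Groth.Agent.H47.CI.FibreStalk
import Groth.Agent.H47.CI.Bridge
import Groth.Agent.H47.CI.Rows4
import Groth.Agent.H47.CI.SchemeMain

/-!
# The relative complete intersection locus of a flat, finitely presented morphism is open
-/

set_option autoImplicit false
set_option linter.style.haveILetI false
set_option linter.unusedSectionVars false

universe u

namespace Groth.Agent.H47.CI

open AlgebraicGeometry CategoryTheory TensorProduct IsLocalRing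

section Ring

/-- a prime of the fibre ring over a prime lying over `p` -/
theorem exists_fibre_prime (R A : Type u) [CommRing R] [CommRing A] [Algebra R A] (p : Ideal R)
    [p.IsPrime] (q : Ideal A) [q.IsPrime] [q.LiesOver p] :
    ∃ (Q : Ideal (p.Fiber A)) (_ : Q.IsPrime),
      Q.comap Algebra.TensorProduct.includeRight.toRingHom = q := by
  let Q : PrimeSpectrum (p.Fiber A) := PrimeSpectrum.primesOverOrderIsoFiber R A p ⟨q, ‹_›, ‹_›⟩
  have hQ : q = Q.asIdeal.comap Algebra.TensorProduct.includeRight.toRingHom :=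
    congr($((PrimeSpectrum.primesOverOrderIsoFiber R A p).symm_apply_apply ⟨q, ‹_›, ‹_›⟩).1).symm
  exact ⟨Q.asIdeal, Q.isPrime, hQ.symm⟩

end Ring

section Scheme

variable {X S : Scheme.{u}} (f : X ⟶ S)

/-- the prime of `x` lies over the prime of `f x` -/
theorem liesOver_primeIdealOf (U : X.Opens) (hU : IsAffineOpen U) (V : S.Opens)
    (hV : IsAffineOpen V) (e : U ≤ f ⁻¹ᵁ V) (x : X) (hx : x ∈ U) :
    letI := (f.appLE V U e).hom.toAlgebra
    (hU.primeIdealOf ⟨x, hx⟩).asIdeal.LiesOver (hV.primeIdealOf ⟨f x, e hx⟩).asIdeal := by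
  letI := (f.appLE V U e).hom.toAlgebra
  letI := TopCat.Presheaf.algebra_section_stalk X.presheaf (⟨x, hx⟩ : U)
  haveI := hU.isLocalization_stalk ⟨x, hx⟩
  letI := TopCat.Presheaf.algebra_section_stalk S.presheaf (⟨f x, e hx⟩ : V)
  haveI := hV.isLocalization_stalk ⟨f x, e hx⟩
  refine ⟨Ideal.ext fun r => ?_⟩
  rw [Ideal.under_def, Ideal.mem_comap,
    ← IsLocalization.AtPrime.to_map_mem_maximal_iff (S.presheaf.stalk (f x))
      (hV.primeIdealOf ⟨f x, e hx⟩).asIdeal r,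
    ← IsLocalization.AtPrime.to_map_mem_maximal_iff (X.presheaf.stalk x)
      (hU.primeIdealOf ⟨x, hx⟩).asIdeal (algebraMap Γ(S, V) Γ(X, U) r)]
  have h2 : (X.presheaf.germ U x hx).hom.comp (f.appLE V U e).hom =
      (f.stalkMap x).hom.comp (S.presheaf.germ V (f x) (e hx)).hom := by
    rw [← CommRingCat.hom_comp, ← CommRingCat.hom_comp, Scheme.Hom.germ_stalkMap,
      Scheme.Hom.appLE, Category.assoc, TopCat.Presheaf.germ_res]
  have h3 : algebraMap Γ(X, U) (X.presheaf.stalk x) (algebraMap Γ(S, V) Γ(X, U) r) =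
      (f.stalkMap x).hom (algebraMap Γ(S, V) (S.presheaf.stalk (f x)) r) :=
    congrArg (fun φ => φ r) h2
  rw [h3]
  constructor
  · intro h
    rw [mem_maximalIdeal, mem_nonunits_iff] at h ⊢
    exact fun hu => h (isUnit_of_map_unit (f.stalkMap x).hom _ hu)
  · intro h
    rw [mem_maximalIdeal, mem_nonunits_iff] at h ⊢
    exact fun hu => h (hu.map _)

/-- **Chart criterion**: the local ring of the fibre through `x` is a complete intersection iff
the local ring of the fibre ring at the corresponding prime is a complete intersection over the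
residue field. -/
theorem isCompleteIntersection_fiberStalk_iff (U : X.Opens) (hU : IsAffineOpen U) (V : S.Opens)
    (hV : IsAffineOpen V) (e : U ≤ f ⁻¹ᵁ V) (x : X) (hx : x ∈ U)
    (hft : letI := (f.appLE V U e).hom.toAlgebra
      Algebra.FiniteType Γ(S, V) Γ(X, U)) :
    letI := (f.appLE V U e).hom.toAlgebra
    ∀ (Q : Ideal ((hV.primeIdealOf ⟨f x, e hx⟩).asIdeal.Fiber Γ(X, U))) [Q.IsPrime],
      Q.comap Algebra.TensorProduct.includeRight.toRingHom =
        (hU.primeIdealOf ⟨x, hx⟩).asIdeal →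
      (Pi1.IsCompleteIntersection (CInt.fiberStalk f x) ↔
        Synt.IsCIOver (hV.primeIdealOf ⟨f x, e hx⟩).asIdeal.ResidueField
          (Localization.AtPrime Q)) := by
  letI := (f.appLE V U e).hom.toAlgebra
  intro Q _ hQ
  haveI := hft
  obtain ⟨ε⟩ := nonempty_ringEquiv_fiberStalk f U hU V hV e x hx Q hQ
  rw [isCIOver_atPrime_iff_isCompleteIntersection _
    ((hV.primeIdealOf ⟨f x, e hx⟩).asIdeal.Fiber Γ(X, U)) Q]
  exact (isCompleteIntersection_iff_of_ringEquiv ε).symm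

/-- **S2863, first part.** -/
theorem isOpen_setOf_isCompleteIntersection_fiberStalk [Flat f] [LocallyOfFinitePresentation f] :
    IsOpen {x : X | Pi1.IsCompleteIntersection (CInt.fiberStalk f x)} := by
  rw [isOpen_iff_forall_mem_open]
  intro x₀ hx₀
  obtain ⟨_, ⟨V, hV : IsAffineOpen V, rfl⟩, hfxV, -⟩ :=
    S.isBasis_affineOpens.exists_subset_of_mem_open (Set.mem_univ (f x₀)) isOpen_univ
  obtain ⟨_, ⟨U, hU : IsAffineOpen U, rfl⟩, hxU, hUV⟩ :=
    X.isBasis_affineOpens.exists_subset_of_mem_open (show x₀ ∈ (f ⁻¹ᵁ V : Set X) from hfxV)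
      (f ⁻¹ᵁ V).isOpen
  have e : U ≤ f ⁻¹ᵁ V := hUV
  letI alg := (f.appLE V U e).hom.toAlgebra
  have hflat : Module.Flat Γ(S, V) Γ(X, U) :=
    HasRingHomProperty.appLE (P := @Flat) f inferInstance ⟨V, hV⟩ ⟨U, hU⟩ e
  have hfp : Algebra.FinitePresentation Γ(S, V) Γ(X, U) :=
    HasRingHomProperty.appLE (P := @LocallyOfFinitePresentation) f inferInstance ⟨V, hV⟩
      ⟨U, hU⟩ e
  have hft : Algebra.FiniteType Γ(S, V) Γ(X, U) := inferInstance
  -- the point `x₀`
  haveI := liesOver_primeIdealOf f U hU V hV e x₀ hxU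
  obtain ⟨Q₀, hQ₀prime, hQ₀⟩ := exists_fibre_prime Γ(S, V) Γ(X, U)
    (hV.primeIdealOf ⟨f x₀, e hxU⟩).asIdeal (hU.primeIdealOf ⟨x₀, hxU⟩).asIdeal
  have hCI₀ := (isCompleteIntersection_fiberStalk_iff f U hU V hV e x₀ hxU hft Q₀ hQ₀).mp hx₀
  have h1 : (1 : Γ(X, U)) ∉ (hU.primeIdealOf ⟨x₀, hxU⟩).asIdeal := fun h =>
    (hU.primeIdealOf ⟨x₀, hxU⟩).isPrime.ne_top ((Ideal.eq_top_iff_one _).mpr h)
  have hfp1 : Algebra.FinitePresentation Γ(S, V) (Localization.Away (1 : Γ(X, U))) := by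
    haveI : Algebra.FinitePresentation Γ(X, U) (Localization.Away (1 : Γ(X, U))) :=
      IsLocalization.Away.finitePresentation 1
    exact Algebra.FinitePresentation.trans Γ(S, V) Γ(X, U) _
  have hflat₀ : Module.Flat Γ(S, V) (Localization.AtPrime (hU.primeIdealOf ⟨x₀, hxU⟩).asIdeal) := by
    haveI : Module.Flat Γ(X, U) (Localization.AtPrime (hU.primeIdealOf ⟨x₀, hxU⟩).asIdeal) :=
      IsLocalization.flat _ (hU.primeIdealOf ⟨x₀, hxU⟩).asIdeal.primeCompl
    exact Module.Flat.trans Γ(S, V) Γ(X, U) _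
  obtain ⟨g, hg, hsyn⟩ := (syntomic_nhd_iff Γ(S, V) Γ(X, U)
    (hV.primeIdealOf ⟨f x₀, e hxU⟩).asIdeal (hU.primeIdealOf ⟨x₀, hxU⟩).asIdeal Q₀ hQ₀).2.mpr
    ⟨1, h1, hfp1, hflat₀, hCI₀⟩
  refine ⟨X.basicOpen g, ?_, (X.basicOpen g).isOpen,
    mem_basicOpen_of_notMem X U hU x₀ hxU g hg⟩
  intro x hxg
  have hxU' : x ∈ U := X.basicOpen_le g hxg
  haveI := liesOver_primeIdealOf f U hU V hV e x hxU'
  obtain ⟨Q, hQprime, hQ⟩ := exists_fibre_prime Γ(S, V) Γ(X, U)
    (hV.primeIdealOf ⟨f x, e hxU'⟩).asIdeal (hU.primeIdealOf ⟨x, hxU'⟩).asIdeal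
  have hgx : g ∉ (hU.primeIdealOf ⟨x, hxU'⟩).asIdeal := by
    letI := TopCat.Presheaf.algebra_section_stalk X.presheaf (⟨x, hxU'⟩ : U)
    haveI := hU.isLocalization_stalk ⟨x, hxU'⟩
    have hxg' : x ∈ X.basicOpen g := hxg
    rw [X.mem_basicOpen g x hxU'] at hxg'
    exact (IsLocalization.AtPrime.isUnit_to_map_iff (X.presheaf.stalk x)
      (hU.primeIdealOf ⟨x, hxU'⟩).asIdeal g).mp hxg'
  obtain ⟨-, -, -, -, hCI⟩ := (syntomic_nhd_iff Γ(S, V) Γ(X, U)
    (hV.primeIdealOf ⟨f x, e hxU'⟩).asIdeal (hU.primeIdealOf ⟨x, hxU'⟩).asIdeal Q hQ).2.mp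
    ⟨g, hgx, hsyn⟩
  exact (isCompleteIntersection_fiberStalk_iff f U hU V hV e x hxU' hft Q hQ).mpr hCI

/-- **S2863.** -/
theorem isOpen_relCI_locus [Flat f] [LocallyOfFinitePresentation f] :
    IsOpen {x : ↥X | Pi1.IsCompleteIntersection (CInt.fiberStalk f x)} ∧
      (IsProper f → IsOpen {s : ↥S | ∀ x : ↥X, f x = s →
        Pi1.IsCompleteIntersection (CInt.fiberStalk f x)}) := by
  refine ⟨isOpen_setOf_isCompleteIntersection_fiberStalk f, fun hp => ?_⟩
  have hclosed : IsClosed {x : ↥X | Pi1.IsCompleteIntersection (CInt.fiberStalk f x)}ᶜ :=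
    (isOpen_setOf_isCompleteIntersection_fiberStalk f).isClosed_compl
  have himg : IsClosed (f '' {x : ↥X | Pi1.IsCompleteIntersection (CInt.fiberStalk f x)}ᶜ) :=
    f.isClosedMap _ hclosed
  have hset : {s : ↥S | ∀ x : ↥X, f x = s → Pi1.IsCompleteIntersection (CInt.fiberStalk f x)} =
      (f '' {x : ↥X | Pi1.IsCompleteIntersection (CInt.fiberStalk f x)}ᶜ)ᶜ := by
    ext s
    simp only [Set.mem_ofPred_eq, Set.mem_compl_iff, Set.mem_image, not_exists, not_and]
    constructor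
    · intro h x hx hfx
      exact hx (h x hfx)
    · intro h x hfx
      by_contra hx
      exact h x hx hfx
  rw [hset]
  exact himg.isOpen_compl

end Scheme

end Groth.Agent.H47.CI
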