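import Mathlib
import Groth.Prelude.Def_CInt
import Groth.Prelude.Def_RegImm
import Groth.Agent.H47.CI.RelCIOpen
import Groth.Agent.H47.Synt.Scheme
import Groth.Agent.H47.Synt.Transport

/-!
# Complete intersection morphisms (fibrewise sense) are exactly the syntomic morphisms
-/

set_option autoImplicit false
set_option linter.style.haveILetI false
set_option linter.unusedSectionVars false

universe u

namespace Groth.Agent.H47.CI

open AlgebraicGeometry CategoryTheory TensorProduct IsLocalRing Groth.Agent.H47.Synt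

variable {X S : Scheme.{u}} (f : X ⟶ S)

/-- if a principal localisation of a chart is syntomic, then `f` is syntomic at the points of the
corresponding basic open -/
theorem isSyntomicAt_of_isSyntomic_away (U : X.Opens) (hU : IsAffineOpen U) (V : S.Opens)
    (hV : IsAffineOpen V) (e : U ≤ f ⁻¹ᵁ V) (x : X) (hx : x ∈ U) (g : Γ(X, U))
    (hg : g ∉ (hU.primeIdealOf ⟨x, hx⟩).asIdeal)
    (h : letI := (f.appLE V U e).hom.toAlgebra
      Synt.IsSyntomic Γ(S, V) (Localization.Away g)) : Synt.IsSyntomicAt f x := by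
  have hle : X.basicOpen g ≤ U := X.basicOpen_le g
  have e' : X.basicOpen g ≤ f ⁻¹ᵁ V := hle.trans e
  refine ⟨⟨X.basicOpen g, hU.basicOpen g⟩, ⟨V, hV⟩, e',
    mem_basicOpen_of_notMem X U hU x hx g hg, ?_⟩
  letI := (f.appLE V U e).hom.toAlgebra
  letI : Algebra Γ(S, V) Γ(X, X.basicOpen g) := (f.appLE V (X.basicOpen g) e').hom.toAlgebra
  haveI := hU.isLocalization_basicOpen g
  haveI : IsScalarTower Γ(S, V) Γ(X, U) Γ(X, X.basicOpen g) :=
    IsScalarTower.of_algebraMap_eq (fun a => by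
      change (f.appLE V (X.basicOpen g) e').hom a =
        (X.presheaf.map (homOfLE hle).op).hom ((f.appLE V U e).hom a)
      rw [← Scheme.Hom.appLE_map f e (homOfLE hle).op]
      rfl)
  let ε : Localization.Away g ≃ₐ[Γ(X, U)] Γ(X, X.basicOpen g) :=
    IsLocalization.algEquiv (Submonoid.powers g) _ _
  exact isSyntomic_of_algEquiv (ε.restrictScalars Γ(S, V)) h

/-- a flat, locally finitely presented morphism whose fibre local ring at `x` is a complete
intersection is syntomic at `x` -/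
theorem isSyntomicAt_of_isCompleteIntersection_fiberStalk [Flat f]
    [LocallyOfFinitePresentation f] (x₀ : X)
    (hx₀ : Pi1.IsCompleteIntersection (CInt.fiberStalk f x₀)) : Synt.IsSyntomicAt f x₀ := by
  obtain ⟨_, ⟨V, hV : IsAffineOpen V, rfl⟩, hfxV, -⟩ :=
    S.isBasis_affineOpens.exists_subset_of_mem_open (Set.mem_univ (f x₀)) isOpen_univ
  obtain ⟨_, ⟨U, hU : IsAffineOpen U, rfl⟩, hxU, hUV⟩ :=
    X.isBasis_affineOpens.exists_subset_of_mem_open (show x₀ ∈ (f ⁻¹ᵁ V : Set X) from hfxV)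
      (f ⁻¹ᵁ V).isOpen
  have e : U ≤ f ⁻¹ᵁ V := hUV
  letI alg := (f.appLE V U e).hom.toAlgebra
  have hflat : Module.Flat Γ(S, V) Γ(X, U) :=
    HasRingHomProperty.appLE (P := @Flat) f inferInstance ⟨V, hV⟩ ⟨U, hU⟩ e
  have hfp : Algebra.FinitePresentation Γ(S, V) Γ(X, U) :=
    HasRingHomProperty.appLE (P := @LocallyOfFinitePresentation) f inferInstance ⟨V, hV⟩
      ⟨U, hU⟩ e
  have hft : Algebra.FiniteType Γ(S, V) Γ(X, U) := inferInstance
  haveI := liesOver_primeIdealOf f U hU V hV e x₀ hxU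
  obtain ⟨Q₀, hQ₀prime, hQ₀⟩ := exists_fibre_prime Γ(S, V) Γ(X, U)
    (hV.primeIdealOf ⟨f x₀, e hxU⟩).asIdeal (hU.primeIdealOf ⟨x₀, hxU⟩).asIdeal
  have hCI₀ := (isCompleteIntersection_fiberStalk_iff f U hU V hV e x₀ hxU hft Q₀ hQ₀).mp hx₀
  have h1 : (1 : Γ(X, U)) ∉ (hU.primeIdealOf ⟨x₀, hxU⟩).asIdeal := fun h =>
    (hU.primeIdealOf ⟨x₀, hxU⟩).isPrime.ne_top ((Ideal.eq_top_iff_one _).mpr h)
  have hfp1 : Algebra.FinitePresentation Γ(S, V) (Localization.Away (1 : Γ(X, U))) := by
    haveI : Algebra.FinitePresentation Γ(X, U) (Localization.Away (1 : Γ(X, U))) :=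
      IsLocalization.Away.finitePresentation 1
    exact Algebra.FinitePresentation.trans Γ(S, V) Γ(X, U) _
  have hflat₀ : Module.Flat Γ(S, V) (Localization.AtPrime (hU.primeIdealOf ⟨x₀, hxU⟩).asIdeal) := by
    haveI : Module.Flat Γ(X, U) (Localization.AtPrime (hU.primeIdealOf ⟨x₀, hxU⟩).asIdeal) :=
      IsLocalization.flat _ (hU.primeIdealOf ⟨x₀, hxU⟩).asIdeal.primeCompl
    exact Module.Flat.trans Γ(S, V) Γ(X, U) _
  obtain ⟨g, hg, hsyn⟩ := (syntomic_nhd_iff Γ(S, V) Γ(X, U)
    (hV.primeIdealOf ⟨f x₀, e hxU⟩).asIdeal (hU.primeIdealOf ⟨x₀, hxU⟩).asIdeal Q₀ hQ₀).2.mpr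
    ⟨1, h1, hfp1, hflat₀, hCI₀⟩
  exact isSyntomicAt_of_isSyntomic_away f U hU V hV e x₀ hxU g hg hsyn

/-- a complete intersection morphism (fibrewise sense) is syntomic -/
theorem isSyntomicMor_of_isCIMorphism (h : CInt.IsCIMorphism f) : Synt.IsSyntomicMor f := by
  obtain ⟨hflat, hlfp, hCI⟩ := h
  exact fun x => isSyntomicAt_of_isCompleteIntersection_fiberStalk f x (hCI x)

/-- a syntomic morphism is flat -/
theorem flat_of_isSyntomicMor (h : Synt.IsSyntomicMor f) : Flat f := by
  rw [isSyntomicMor_iff] at h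
  rw [HasRingHomProperty.eq_affineLocally (P := @Flat)]
  exact affineLocally_le (fun {R S} _ _ φ hφ => hφ.1) f h

/-- a syntomic morphism is locally of finite presentation -/
theorem locallyOfFinitePresentation_of_isSyntomicMor (h : Synt.IsSyntomicMor f) :
    LocallyOfFinitePresentation f := by
  rw [isSyntomicMor_iff] at h
  rw [HasRingHomProperty.eq_affineLocally (P := @LocallyOfFinitePresentation)]
  exact affineLocally_le (fun {R S} _ _ φ hφ => hφ.2.1) f h

/-- the fibre local rings of a morphism syntomic at `x` are complete intersections -/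
theorem isCompleteIntersection_fiberStalk_of_isSyntomicAt (x : X) (h : Synt.IsSyntomicAt f x) :
    Pi1.IsCompleteIntersection (CInt.fiberStalk f x) := by
  obtain ⟨⟨U, hU⟩, ⟨V, hV⟩, e, hx, hsyn⟩ := h
  change U ≤ f ⁻¹ᵁ V at e
  change x ∈ U at hx
  letI alg := (f.appLE V U e).hom.toAlgebra
  change Synt.IsSyntomic Γ(S, V) Γ(X, U) at hsyn
  have hft : Algebra.FiniteType Γ(S, V) Γ(X, U) := by
    haveI := hsyn.2.1
    infer_instance
  haveI := liesOver_primeIdealOf f U hU V hV e x hx
  obtain ⟨Q, hQprime, hQ⟩ := exists_fibre_prime Γ(S, V) Γ(X, U)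
    (hV.primeIdealOf ⟨f x, e hx⟩).asIdeal (hU.primeIdealOf ⟨x, hx⟩).asIdeal
  exact (isCompleteIntersection_fiberStalk_iff f U hU V hV e x hx hft Q hQ).mpr
    (isCIOver_atPrime_of_isLCIOver _ (hsyn.2.2 (hV.primeIdealOf ⟨f x, e hx⟩)) Q)

/-- a syntomic morphism is a complete intersection morphism in the fibrewise sense -/
theorem isCIMorphism_of_isSyntomicMor (h : Synt.IsSyntomicMor f) : CInt.IsCIMorphism f :=
  ⟨flat_of_isSyntomicMor f h, locallyOfFinitePresentation_of_isSyntomicMor f h,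
    fun x => isCompleteIntersection_fiberStalk_of_isSyntomicAt f x (h x)⟩

/-- **Complete intersection morphisms (flat, locally finitely presented, fibre local rings
complete intersections) are exactly the syntomic morphisms.** -/
theorem isCIMorphism_iff_isSyntomicMor : CInt.IsCIMorphism f ↔ Synt.IsSyntomicMor f :=
  ⟨isSyntomicMor_of_isCIMorphism f, isCIMorphism_of_isSyntomicMor f⟩

end Groth.Agent.H47.CI
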