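import Mathlib
import Groth.Agent.H47.CI.AbsCI
import Groth.Agent.H47.CI.AbsCITransfer

/-!
# The complete intersection defect is independent of the regular presentation (S2941)
-/

set_option autoImplicit false
set_option linter.style.haveILetI false
set_option linter.unusedSectionVars false

universe u

namespace Groth.Agent.H47.CI

open IsLocalRing RingTheory.Sequence

/-- a surjection from a regular local ring `B` onto `A` induces a surjection from the completion of
`B` onto the completion of `A` with kernel the extension of the kernel -/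
theorem exists_completion_presentation (A : Type u) [CommRing A] [IsLocalRing A]
    [IsNoetherianRing A] (B : Type u) [CommRing B] [IsRegularLocalRing B] (f : B →+* A)
    (hf : Function.Surjective f) :
    ∃ π : AdicCompletion (maximalIdeal B) B →+* AdicCompletion (maximalIdeal A) A,
      Function.Surjective π ∧
        RingHom.ker π = (RingHom.ker f).map
          (algebraMap B (AdicCompletion (maximalIdeal B) B)) ∧
        (RingHom.ker π).spanFinrank = (RingHom.ker f).spanFinrank := by
  have hne : RingHom.ker f ≠ ⊤ := RingHom.ker_ne_top f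
  haveI : IsLocalRing (B ⧸ RingHom.ker f) :=
    Groth.Agent.Lead.RLR.isLocalRing_quotient B _ hne
  let eq : (B ⧸ RingHom.ker f) ≃+* A := RingHom.quotientKerEquivOfSurjective hf
  obtain ⟨e₁⟩ := nonempty_ringEquiv_adicCompletion eq
  obtain ⟨e₂⟩ := Groth.Agent.H26.ComplQuot.nonempty_adicCompletion_quotient_equiv B (RingHom.ker f)
  let π : AdicCompletion (maximalIdeal B) B →+* AdicCompletion (maximalIdeal A) A :=
    (RingEquiv.toRingHom (e₂.symm.trans e₁)).comp
      (Ideal.Quotient.mk ((RingHom.ker f).map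
        (algebraMap B (AdicCompletion (maximalIdeal B) B))))
  have hk : RingHom.ker π = (RingHom.ker f).map
      (algebraMap B (AdicCompletion (maximalIdeal B) B)) := by
    rw [RingHom.ker_equiv_comp, Ideal.mk_ker]
  refine ⟨π, (e₂.symm.trans e₁).surjective.comp Ideal.Quotient.mk_surjective, hk, ?_⟩
  rw [hk]
  exact spanFinrank_map_completion B (RingHom.ker f)

/-- S2941 -/
theorem geomDepth_independent_of_presentation (A : Type u) [CommRing A] [IsLocalRing A]
    [IsNoetherianRing A] (B B' : Type u) [CommRing B] [CommRing B'] [IsRegularLocalRing B]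
    [IsRegularLocalRing B'] (f : B →+* A) (hf : Function.Surjective f) (f' : B' →+* A)
    (hf' : Function.Surjective f') (d d' : ℕ) (hd : ringKrullDim B = d)
    (hd' : ringKrullDim B' = d') :
    (d : ℤ) - ((RingHom.ker f).spanFinrank : ℤ) =
      (d' : ℤ) - ((RingHom.ker f').spanFinrank : ℤ) := by
  obtain ⟨π₁, hπ₁, -, hμ₁⟩ := exists_completion_presentation A B f hf
  obtain ⟨π₂, hπ₂, -, hμ₂⟩ := exists_completion_presentation A B' f' hf'
  haveI : IsRegularLocalRing (AdicCompletion (maximalIdeal B) B) :=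
    Groth.Agent.Lead.RLR.isRegularLocalRing_adicCompletion B
  haveI : IsRegularLocalRing (AdicCompletion (maximalIdeal B') B') :=
    Groth.Agent.Lead.RLR.isRegularLocalRing_adicCompletion B'
  haveI : IsLocalRing (AdicCompletion (maximalIdeal A) A) :=
    Groth.Agent.Lead.RLR.isLocalRing_adicCompletion A (maximalIdeal A)
      (Ideal.IsMaximal.ne_top inferInstance)
  obtain ⟨T, _, _, ρ₁, ρ₂, hρ₁, hρ₂, hcomm⟩ := exists_dominating_complete π₁ π₂ hπ₁ hπ₂
  obtain ⟨dT, hdT, -⟩ := Groth.Agent.Lead.RLR.exists_ringKrullDim_eq T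
  have hd₁ : ringKrullDim (AdicCompletion (maximalIdeal B) B) = (d : WithBot ℕ∞) := by
    rw [Groth.Agent.Lead.RLR.ringKrullDim_adicCompletion_eq B (maximalIdeal B)
      (Ideal.IsMaximal.ne_top inferInstance), hd]
  have hd₂ : ringKrullDim (AdicCompletion (maximalIdeal B') B') = (d' : WithBot ℕ∞) := by
    rw [Groth.Agent.Lead.RLR.ringKrullDim_adicCompletion_eq B' (maximalIdeal B')
      (Ideal.IsMaximal.ne_top inferInstance), hd']
  have hk₁ : RingHom.ker π₁ ≠ ⊤ := RingHom.ker_ne_top π₁
  have hk₂ : RingHom.ker π₂ ≠ ⊤ := RingHom.ker_ne_top π₂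
  have hc₁ := spanFinrank_comap_add ρ₁ hρ₁ dT d hdT hd₁ (RingHom.ker π₁) hk₁
  have hc₂ := spanFinrank_comap_add ρ₂ hρ₂ dT d' hdT hd₂ (RingHom.ker π₂) hk₂
  have hJ : (RingHom.ker π₁).comap ρ₁ = (RingHom.ker π₂).comap ρ₂ := by
    rw [RingHom.comap_ker, RingHom.comap_ker, hcomm]
  rw [hJ] at hc₁
  rw [hμ₁] at hc₁
  rw [hμ₂] at hc₂
  omega

end Groth.Agent.H47.CI
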