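import Mathlib
import Groth.Prelude.Def_RegImm
import Groth.Agent.H47.CI.Rows

/-!
# Complete intersections over a field: S9143 and S9171 (ring level)
-/

set_option autoImplicit false
set_option linter.style.haveILetI false
set_option linter.unusedSectionVars false

universe u

namespace Groth.Agent.H47.CI

open IsLocalRing RingTheory.Sequence

variable (k : Type u) [Field k]

/-- a complete intersection essentially of finite type is a local ring of a global complete
intersection of finite type -/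
theorem exists_globalCI_model (S : Type u) [CommRing S] [IsLocalRing S] [Algebra k S]
    [Algebra.EssFiniteType k S] (h : Synt.IsCIOver k S) :
    ∃ (A : Type u) (_ : CommRing A) (_ : Algebra k A) (a : Ideal A) (_ : a.IsPrime),
      Algebra.FiniteType k A ∧ Synt.IsGlobalCI k A ∧
        Nonempty (S ≃ₐ[k] Localization.AtPrime a) := by
  let A₀ := Algebra.EssFiniteType.subalgebra k S
  let 𝔭 : Ideal A₀ := (maximalIdeal S).comap (algebraMap A₀ S)
  haveI h𝔭 : 𝔭.IsPrime := Ideal.comap_isPrime _ _
  have hM : Algebra.EssFiniteType.submonoid k S = 𝔭.primeCompl := by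
    ext x
    change IsUnit (algebraMap A₀ S x) ↔ ¬ (algebraMap A₀ S x ∈ maximalIdeal S)
    rw [IsLocalRing.mem_maximalIdeal, mem_nonunits_iff, not_not]
  haveI : IsLocalization 𝔭.primeCompl S :=
    hM ▸ (inferInstance : IsLocalization (Algebra.EssFiniteType.submonoid k S) S)
  let e₀ : Localization.AtPrime 𝔭 ≃ₐ[A₀] S := IsLocalization.algEquiv 𝔭.primeCompl _ _
  let e₀' : Localization.AtPrime 𝔭 ≃ₐ[k] S := e₀.restrictScalars k
  have hCI : Synt.IsCIOver k (Localization.AtPrime 𝔭) := isCIOver_of_algEquiv k e₀'.symm h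
  obtain ⟨g, hg, hG⟩ := exists_away_isGlobalCI k A₀ 𝔭 hCI
  haveI := Groth.Agent.H47.CMSlice.isPrime_map_away 𝔭 (Localization.Away g) g hg
  have hc := Groth.Agent.H47.CMSlice.comap_map_away 𝔭 (Localization.Away g) g hg
  obtain ⟨e₁⟩ := nonempty_algEquiv_atPrime_away k g 𝔭
    (𝔭.map (algebraMap A₀ (Localization.Away g))) hc
  refine ⟨Localization.Away g, inferInstance, inferInstance,
    𝔭.map (algebraMap A₀ (Localization.Away g)), inferInstance, ?_, hG, ⟨e₀'.symm.trans e₁⟩⟩
  exact Algebra.FiniteType.trans (S := A₀) inferInstance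
    (IsLocalization.finiteType_of_monoid_fg (Submonoid.powers g) _)

/-- S9143 -/
theorem isCIOver_iff (S : Type u) [CommRing S] [IsLocalRing S] [Algebra k S]
    [Algebra.EssFiniteType k S] :
    (Synt.IsCIOver k S ↔
        ∀ (R : Type u) [CommRing R] [IsRegularLocalRing R] [Algebra k R],
          Algebra.EssFiniteType k R → ∀ π : R →ₐ[k] S, Function.Surjective π →
            ∃ rs : List R, RingTheory.Sequence.IsRegular R rs ∧
              RingHom.ker π.toRingHom = Ideal.ofList rs) ∧
      (Synt.IsCIOver k S ↔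
        ∃ (R : Type u) (_ : CommRing R) (_ : IsRegularLocalRing R) (_ : Algebra k R),
          Algebra.EssFiniteType k R ∧ ∃ π : R →ₐ[k] S, Function.Surjective π ∧
            ∃ rs : List R, RingHom.ker π.toRingHom = Ideal.ofList rs ∧
              ringKrullDim R = ringKrullDim S + (rs.length : WithBot ℕ∞)) ∧
      (Synt.IsCIOver k S ↔
        ∃ (A : Type u) (_ : CommRing A) (_ : Algebra k A) (a : Ideal A) (_ : a.IsPrime),
          Algebra.FiniteType k A ∧ Synt.IsGlobalCI k A ∧
            Nonempty (S ≃ₐ[k] Localization.AtPrime a)) ∧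
      (Synt.IsCIOver k S ↔
        ∃ (A : Type u) (_ : CommRing A) (_ : Algebra k A) (a : Ideal A) (_ : a.IsPrime),
          Synt.IsLCIOver k A ∧ Nonempty (S ≃ₐ[k] Localization.AtPrime a)) := by
  refine ⟨⟨fun h R _ _ _ hR π hπ => IsCIOver.exists_isRegular_ker k h R hR π hπ,
    fun h => isCIOver_of_forall k h⟩,
    ⟨fun h => IsCIOver.exists_length k h, ?_⟩, ⟨fun h => exists_globalCI_model k S h, ?_⟩,
    ⟨fun h => ?_, ?_⟩⟩
  · rintro ⟨R, _, _, _, hR, π, hπ, rs, hker, hdim⟩
    exact isCIOver_of_length k R hR π hπ rs hker hdim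
  · rintro ⟨A, _, _, a, _, -, hG, ⟨e⟩⟩
    exact isCIOver_of_algEquiv k e.symm (isCIOver_atPrime_of_isGlobalCI k hG a)
  · obtain ⟨A, i1, i2, a, i3, -, hG, he⟩ := exists_globalCI_model k S h
    exact ⟨A, i1, i2, a, i3, isLCIOver_of_isGlobalCI k hG, he⟩
  · rintro ⟨A, _, _, a, _, hL, ⟨e⟩⟩
    exact isCIOver_of_algEquiv k e.symm (isCIOver_atPrime_of_isLCIOver k hL a)

end Groth.Agent.H47.CI
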