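import Mathlib
import Groth.Prelude.Def_RegImm
import Groth.Agent.H47.CI.Rows2

/-!
# Complete intersections over a field: S9171 (presentation form)
-/

set_option autoImplicit false
set_option linter.style.haveILetI false
set_option linter.unusedSectionVars false

universe u

namespace Groth.Agent.H47.CI

open IsLocalRing RingTheory.Sequence

variable (k : Type u) [Field k]

/-- the local presentation `A_Q → (A/I)_q` -/
theorem exists_localAlgHom_mk {A₀ : Type u} [CommRing A₀] [Algebra k A₀] (I : Ideal A₀)
    (q : Ideal (A₀ ⧸ I)) [q.IsPrime] :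
    ∃ π : Localization.AtPrime (q.comap (Ideal.Quotient.mk I)) →ₐ[k] Localization.AtPrime q,
      Function.Surjective π ∧ RingHom.ker π.toRingHom =
        I.map (algebraMap _ (Localization.AtPrime (q.comap (Ideal.Quotient.mk I)))) := by
  obtain ⟨π, hπ, hker, -⟩ := exists_localAlgHom k (Ideal.Quotient.mkₐ k I)
    (Ideal.Quotient.mkₐ_surjective k I) q
  have h2 : RingHom.ker (Ideal.Quotient.mkₐ k I).toRingHom = I := (Ideal.mk_ker (I := I))
  rw [h2] at hker
  exact ⟨π, hπ, hker⟩

/-- S9171 -/
theorem presentation_iff (n : ℕ) (I : Ideal (MvPolynomial (Fin n) k))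
    (q : Ideal (MvPolynomial (Fin n) k ⧸ I)) [q.IsPrime] (c : ℕ)
    (hc : (c : ℕ∞) + q.height = (q.comap (Ideal.Quotient.mk I)).height) :
    ((∃ g : MvPolynomial (Fin n) k ⧸ I, g ∉ q ∧ Synt.IsGlobalCI k (Localization.Away g)) ↔
        ∃ s : Finset (Localization.AtPrime (q.comap (Ideal.Quotient.mk I))), s.card = c ∧
          Ideal.span (s : Set _) =
            I.map (algebraMap _ (Localization.AtPrime (q.comap (Ideal.Quotient.mk I))))) ∧
      ((∃ g : MvPolynomial (Fin n) k ⧸ I, g ∉ q ∧ Synt.IsGlobalCI k (Localization.Away g)) ↔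
        ∃ rs : List (Localization.AtPrime (q.comap (Ideal.Quotient.mk I))),
          RingTheory.Sequence.IsRegular (Localization.AtPrime (q.comap (Ideal.Quotient.mk I))) rs ∧
          Ideal.ofList rs =
            I.map (algebraMap _ (Localization.AtPrime (q.comap (Ideal.Quotient.mk I))))) := by
  classical
  obtain ⟨π, hπ, hker⟩ := exists_localAlgHom_mk k I q
  have hS : (∃ g : MvPolynomial (Fin n) k ⧸ I, g ∉ q ∧ Synt.IsGlobalCI k (Localization.Away g)) ↔
      Synt.IsCIOver k (Localization.AtPrime q) :=
    ((atPrime_iff_exists_away k _ q).2).symm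
  have hdP : ringKrullDim (Localization.AtPrime (q.comap (Ideal.Quotient.mk I))) =
      (q.comap (Ideal.Quotient.mk I)).height :=
    IsLocalization.AtPrime.ringKrullDim_eq_height _ _
  have hdS : ringKrullDim (Localization.AtPrime q) = q.height :=
    IsLocalization.AtPrime.ringKrullDim_eq_height q (Localization.AtPrime q)
  have hdim : ringKrullDim (Localization.AtPrime (q.comap (Ideal.Quotient.mk I))) =
      ringKrullDim (Localization.AtPrime q) + (c : WithBot ℕ∞) := by
    rw [hdP, hdS, ← hc, add_comm]
    push_cast
    rfl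
  haveI : IsNoetherianRing (Localization.AtPrime q) :=
    IsLocalization.isNoetherianRing q.primeCompl _ inferInstance
  constructor
  · rw [hS]
    constructor
    · intro hCI
      obtain ⟨rs, hreg, hk⟩ := IsCIOver.exists_isRegular_ker k hCI _ inferInstance π hπ
      obtain ⟨d, hd, -⟩ := Groth.Agent.Lead.RLR.exists_ringKrullDim_eq
        (Localization.AtPrime (q.comap (Ideal.Quotient.mk I)))
      obtain ⟨e, he, -⟩ := Groth.Agent.Lead.RLR.exists_ringKrullDim_eq (Localization.AtPrime q)
      have he' : ringKrullDim (_ ⧸ RingHom.ker π.toRingHom) = (e : WithBot ℕ∞) := by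
        rw [ringKrullDim_eq_of_ringEquiv (RingHom.quotientKerEquivOfSurjective hπ), he]
      have hne : RingHom.ker π.toRingHom ≠ ⊤ := RingHom.ker_ne_top _
      have hnum := (exists_isRegular_iff _ (RingHom.ker π.toRingHom) hne d e hd he').mp
        ⟨rs, hreg, hk⟩
      have hkrull := ringKrullDim_le_ringKrullDim_quotient_add_spanFinrank
        (RingHom.ker π.toRingHom) (by
          rw [IsLocalRing.ringJacobson_eq_maximalIdeal]
          exact IsLocalRing.le_maximalIdeal hne)
      rw [hd, he'] at hkrull
      have hk' : d ≤ e + (RingHom.ker π.toRingHom).spanFinrank := by exact_mod_cast hkrull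
      rw [hd, he] at hdim
      have hdc : d = e + c := by exact_mod_cast hdim
      have hμ : (RingHom.ker π.toRingHom).spanFinrank = c := by omega
      obtain ⟨s, hcard, hspan⟩ := Submodule.FG.exists_span_finset_card_eq_spanFinrank
        (IsNoetherian.noetherian (RingHom.ker π.toRingHom))
      exact ⟨s, by rw [hcard, hμ], by rw [← hker]; exact hspan⟩
    · rintro ⟨s, hcard, hspan⟩
      apply isCIOver_of_length k _ inferInstance π hπ s.toList
      · rw [hker, ← hspan]
        unfold Ideal.ofList
        congr 1
        ext x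
        simp
      · rw [Finset.length_toList, hcard]
        exact hdim
  · rw [hS]
    constructor
    · intro hCI
      obtain ⟨rs, hreg, hk⟩ := IsCIOver.exists_isRegular_ker k hCI _ inferInstance π hπ
      exact ⟨rs, hreg, by rw [← hk, hker]⟩
    · rintro ⟨rs, hreg, hof⟩
      exact isCIOver_of_surjective k _ inferInstance π hπ rs hreg (hker.trans hof.symm)

end Groth.Agent.H47.CI
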